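import Groth.Agent.VerlindeComb.K289.Main2

set_option autoImplicit false

namespace K289.Verlinde

open Finset

/-- S18378. -/
theorem S18378 (r k : ℕ) (hr : 1 ≤ r)
    (v v' : Fin r → ℕ) (hv : StrictAnti v) (hvlt : ∀ i, v i < r + k) (hv' : StrictAnti v')
    (hv'lt : ∀ i, v' i < r + k) (hne : ¬ ∃ a : ℤ, ∀ i, (v i : ℤ) - (v' i : ℤ) = a)
    (z z' : Fin r → ℂ) (hz : ∀ j, z j = Complex.exp (2 * Real.pi * Complex.I * (v j : ℂ) / ((r : ℂ) + k)))
    (hz' : ∀ j, z' j = Complex.exp (2 * Real.pi * Complex.I * (v' j : ℂ) / ((r : ℂ) + k)))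
    (S S' : (Fin r → ℕ) → ℂ)
    (hS : ∀ μ : Fin r → ℕ, S μ =
      (Matrix.of fun i j : Fin r => z j ^ (μ i + (r - 1 - (i : ℕ)))).det /
        (Matrix.of fun i j : Fin r => z j ^ (r - 1 - (i : ℕ))).det)
    (hS' : ∀ μ : Fin r → ℕ, S' μ =
      (Matrix.of fun i j : Fin r => z' j ^ (μ i + (r - 1 - (i : ℕ)))).det /
        (Matrix.of fun i j : Fin r => z' j ^ (r - 1 - (i : ℕ))).det) :
    (∑ μ ∈ (Finset.univ : Finset (Fin r → Fin (k + 1))).filter
        (fun μ : Fin r → Fin (k + 1) => Antitone μ ∧ ∀ i : Fin r, (i : ℕ) = r - 1 → (μ i : ℕ) = 0),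
      Complex.exp (-(2 * Real.pi * Complex.I * ((∑ i, (μ i : ℕ) : ℕ) : ℂ) * ((∑ j, v j : ℕ) : ℂ) /
          ((r : ℂ) * ((r : ℂ) + k)))) *
      Complex.exp (-(2 * Real.pi * Complex.I * ((∑ i, (k - (μ (Fin.rev i) : ℕ)) : ℕ) : ℂ) *
          ((∑ j, v' j : ℕ) : ℂ) / ((r : ℂ) * ((r : ℂ) + k)))) *
      S (fun i => (μ i : ℕ)) * S' (fun i => k - (μ (Fin.rev i) : ℕ))) = 0 := by
  classical
  have hrk : 0 < r + k := by omega
  have hr' : (r : ℝ) ≠ 0 := by positivity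
  have hrk' : (r : ℝ) + k ≠ 0 := by positivity
  have hvz : StrictAnti (fun i => (v i : ℤ)) := fun a b hab => by
    have := hv hab; show ((v b : ℤ)) < (v a : ℤ); exact_mod_cast this
  have hvz' : StrictAnti (fun i => (v' i : ℤ)) := fun a b hab => by
    have := hv' hab; show ((v' b : ℤ)) < (v' a : ℤ); exact_mod_cast this
  have hvb : ∀ i, 0 ≤ (v i : ℤ) ∧ (v i : ℤ) < ((r + k : ℕ) : ℤ) := fun i => by
    have := hvlt i; omega
  have hvb' : ∀ i, 0 ≤ (v' i : ℤ) ∧ (v' i : ℤ) < ((r + k : ℕ) : ℤ) := fun i => by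
    have := hv'lt i; omega
  have hcore := core_zero hr hrk (fun i => (v i : ℤ)) (fun i => (v' i : ℤ)) hvz hvz' hvb hvb' hne
  -- the constant
  set D : ℂ := B (r + k) (dl r) (fun j => (((v j : ℕ) : ℤ) : ℝ)) with hD
  set D' : ℂ := B (r + k) (dl r) (fun j => -(((v' j : ℕ) : ℤ) : ℝ)) with hD'
  set w : ℝ := -((∑ i, (((v i : ℕ) : ℤ) : ℝ)) - ∑ i, (((v' i : ℕ) : ℤ) : ℝ)) / r with hw
  let c₀ : ℂ := E (-((∑ i, (dl r i : ℝ)) * w / ((r + k : ℕ) : ℝ))) / (D * D')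
  have key := sum_part_eq (r := r) (k := k) (fun μ : Fin r → ℕ =>
      Complex.exp (-(2 * Real.pi * Complex.I * ((∑ i, (μ i : ℕ) : ℕ) : ℂ) * ((∑ j, v j : ℕ) : ℂ) /
          ((r : ℂ) * ((r : ℂ) + k)))) *
      Complex.exp (-(2 * Real.pi * Complex.I * ((∑ i, (k - (μ (Fin.rev i) : ℕ)) : ℕ) : ℂ) *
          ((∑ j, v' j : ℕ) : ℂ) / ((r : ℂ) * ((r : ℂ) + k)))) *
      S (fun i => (μ i : ℕ)) * S' (fun i => k - (μ (Fin.rev i) : ℕ)))
    (fun ℓ => c₀ * (E ((∑ i, (ℓ i : ℝ)) * w / ((r + k : ℕ) : ℝ)) *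
      B (r + k) ℓ (fun j => (((v j : ℕ) : ℤ) : ℝ)) *
      B (r + k) ℓ (fun j => -(((v' j : ℕ) : ℤ) : ℝ)))) (by
      intro μ hμk hμ
      have h1 := S_eq (r := r) (k := k) v z hz μ
      have h2 := S_eq (r := r) (k := k) v' z' hz' (fun i => k - μ (Fin.rev i))
      have h3 := schur_dual (r := r) (k := k) (r + k) rfl hrk (fun i => (μ i : ℤ) + dl r i)
        (fun i => ((k - μ (Fin.rev i) : ℕ) : ℤ) + dl r i) (dual_index μ hμk)
        (fun j => (((v' j : ℕ) : ℤ) : ℝ))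
      show _ * _ * S μ * S' (fun i => k - μ (Fin.rev i)) = _
      rw [hS, hS', h1, h2, h3]
      have h4 : ((∑ i, ((k - μ (Fin.rev i) : ℕ) : ℝ))) = r * k - ∑ i, (μ i : ℝ) := by
        have := sum_dual μ hμk
        push_cast at this
        rw [← this]
      have hphase : Complex.exp (-(2 * Real.pi * Complex.I * ((∑ i, (μ i : ℕ) : ℕ) : ℂ) *
            ((∑ j, v j : ℕ) : ℂ) / ((r : ℂ) * ((r : ℂ) + k)))) *
          Complex.exp (-(2 * Real.pi * Complex.I * ((∑ i, (k - (μ (Fin.rev i) : ℕ)) : ℕ) : ℂ) *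
          ((∑ j, v' j : ℕ) : ℂ) / ((r : ℂ) * ((r : ℂ) + k)))) *
          E (k * (∑ j, (((v' j : ℕ) : ℤ) : ℝ)) / ((r + k : ℕ) : ℝ)) =
          E (-((∑ i, (dl r i : ℝ)) * w / ((r + k : ℕ) : ℝ))) *
          E ((∑ i, ((((μ i : ℤ) + dl r i : ℤ)) : ℝ)) * w / ((r + k : ℕ) : ℝ)) := by
        have e1 : Complex.exp (-(2 * Real.pi * Complex.I * ((∑ i, (μ i : ℕ) : ℕ) : ℂ) *
            ((∑ j, v j : ℕ) : ℂ) / ((r : ℂ) * ((r : ℂ) + k)))) =
            E (-((∑ i, (μ i : ℝ)) * (∑ j, (v j : ℝ)) / (r * (r + k)))) := by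
          rw [E]; congr 1; push_cast; ring
        have e2 : Complex.exp (-(2 * Real.pi * Complex.I *
          ((∑ i, (k - (μ (Fin.rev i) : ℕ)) : ℕ) : ℂ) *
          ((∑ j, v' j : ℕ) : ℂ) / ((r : ℂ) * ((r : ℂ) + k)))) =
            E (-((∑ i, ((k - μ (Fin.rev i) : ℕ) : ℝ)) * (∑ j, (v' j : ℝ)) / (r * (r + k)))) := by
          rw [E]; congr 1; push_cast; ring
        rw [e1, e2, ← E_add, ← E_add, ← E_add, h4]
        congr 1
        push_cast
        rw [Finset.sum_add_distrib, hw]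
        push_cast
        field_simp
        ring
      simp only [c₀]
      rw [show E (-((∑ i, (dl r i : ℝ)) * w / ((r + k : ℕ) : ℝ))) / (D * D') *
        (E ((∑ i, ((((μ i : ℤ) + dl r i : ℤ)) : ℝ)) * w / ((r + k : ℕ) : ℝ)) *
          B (r + k) (fun i => (μ i : ℤ) + dl r i) (fun j => (((v j : ℕ) : ℤ) : ℝ)) *
          B (r + k) (fun i => (μ i : ℤ) + dl r i) (fun j => -(((v' j : ℕ) : ℤ) : ℝ))) =
        (E (-((∑ i, (dl r i : ℝ)) * w / ((r + k : ℕ) : ℝ))) *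
          E ((∑ i, ((((μ i : ℤ) + dl r i : ℤ)) : ℝ)) * w / ((r + k : ℕ) : ℝ))) *
          (B (r + k) (fun i => (μ i : ℤ) + dl r i) (fun j => (((v j : ℕ) : ℤ) : ℝ)) *
          B (r + k) (fun i => (μ i : ℤ) + dl r i) (fun j => -(((v' j : ℕ) : ℤ) : ℝ))) / (D * D') by
            ring]
      rw [← hphase, ← hD, ← hD']
      ring)
  have key2 : (∑ ℓ ∈ alc r (r + k), (c₀ * (E ((∑ i, (ℓ i : ℝ)) * w / ((r + k : ℕ) : ℝ)) *
      B (r + k) ℓ (fun j => (((v j : ℕ) : ℤ) : ℝ)) *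
      B (r + k) ℓ (fun j => -(((v' j : ℕ) : ℤ) : ℝ))))) = 0 := by
    rw [← Finset.mul_sum, hcore, mul_zero]
  rw [← key2, ← key]

/-- reindexing of partitions with entries `< k`. -/
lemma sum_part_lt_eq {r k n : ℕ} (hk : 1 ≤ k) (hn : n + 1 = r + k) (f : (Fin r → ℕ) → ℂ)
    (g : (Fin r → Fin n) → ℂ)
    (hfg : ∀ (μ : Fin r → ℕ) (ℓ : Fin r → Fin n), (∀ i, μ i < k) → Antitone μ →
      (∀ i, (ℓ i : ℕ) = μ i + (r - 1 - (i : ℕ))) → f μ = g ℓ)
    [DecidablePred (fun μ : Fin r → Fin k => Antitone μ)]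
    [DecidablePred (fun ℓ : Fin r → Fin n => StrictAnti ℓ)] :
    ∑ μ ∈ (Finset.univ : Finset (Fin r → Fin k)).filter (fun μ : Fin r → Fin k => Antitone μ),
      f (fun i => (μ i : ℕ)) =
    ∑ ℓ ∈ (Finset.univ : Finset (Fin r → Fin n)).filter (fun ℓ => StrictAnti ℓ), g ℓ := by
  refine Finset.sum_bij (fun μ _ => fun i => ⟨(μ i : ℕ) + (r - 1 - (i : ℕ)), by
    have h1 := (μ i).isLt
    have h2 := i.isLt
    omega⟩) ?_ ?_ ?_ ?_
  · intro μ hμ
    simp only [mem_filter, mem_univ, true_and] at hμ ⊢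
    intro a b hab
    have h1 : (μ b : ℕ) ≤ μ a := hμ hab.le
    have h2 : (a : ℕ) < b := hab
    have h3 := b.isLt
    rw [Fin.lt_def]
    show (μ b : ℕ) + (r - 1 - (b : ℕ)) < (μ a : ℕ) + (r - 1 - (a : ℕ))
    omega
  · intro μ _ μ' _ h
    funext i
    have h1 := congrArg Fin.val (congrFun h i)
    simp only at h1
    ext
    omega
  · intro ℓ hℓ
    simp only [mem_filter, mem_univ, true_and] at hℓ
    have key : ∀ (d : ℕ) (a b : Fin r), (b : ℕ) = a + d → (ℓ b : ℕ) + d ≤ ℓ a := by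
      intro d
      induction d with
      | zero =>
        intro a b h
        have : a = b := by ext; omega
        subst this; simp
      | succ d ih =>
        intro a b h
        have hlt := b.isLt
        let c : Fin r := ⟨a + d, by omega⟩
        have h4 := ih a c rfl
        have h5 : (ℓ b : ℕ) < ℓ c :=
          hℓ (by rw [Fin.lt_def, h]; show (a : ℕ) + d < a + (d + 1); omega)
        omega
    have hr : ∀ i : Fin r, r - 1 - (i : ℕ) ≤ ℓ i := by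
      intro i
      have hlt := i.isLt
      have := key (r - 1 - i) i ⟨r - 1, by omega⟩ (by show r - 1 = (i : ℕ) + (r - 1 - i); omega)
      omega
    have hkk : ∀ i : Fin r, (ℓ i : ℕ) - (r - 1 - (i : ℕ)) < k := by
      intro i
      have hlt := i.isLt
      have h1 := key i ⟨0, by omega⟩ i (by simp)
      have h2 := (ℓ ⟨0, by omega⟩).isLt
      omega
    refine ⟨fun i => ⟨(ℓ i : ℕ) - (r - 1 - (i : ℕ)), hkk i⟩, ?_, ?_⟩
    · simp only [mem_filter, mem_univ, true_and]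
      intro a b hab
      rw [Fin.le_def]
      show (ℓ b : ℕ) - (r - 1 - (b : ℕ)) ≤ (ℓ a : ℕ) - (r - 1 - (a : ℕ))
      have h1 : (a : ℕ) ≤ b := hab
      have h2 := key (b - a) a b (by omega)
      have h3 := b.isLt
      omega
    · funext i
      ext
      show (ℓ i : ℕ) - (r - 1 - (i : ℕ)) + (r - 1 - (i : ℕ)) = ℓ i
      have := hr i
      omega
  · intro μ hμ
    simp only [mem_filter, mem_univ, true_and] at hμ
    exact hfg _ _ (fun i => (μ i).isLt) (fun a b hab => hμ hab) (fun i => rfl)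

lemma det_sub_rank_one {r : ℕ} (n : ℂ) (hn : n ≠ 0) (hr : 1 ≤ r) (u w : Fin r → ℂ)
    (h : ∀ j, w j * u j = 1) :
    (Matrix.of fun j j' : Fin r => (if j = j' then n else 0) - u j * w j').det =
      n ^ (r - 1) * (n - r) := by
  have h1 : (Matrix.of fun j j' : Fin r => (if j = j' then n else 0) - u j * w j') =
      n • (1 + Matrix.replicateCol Unit (fun j => -(u j) / n) * Matrix.replicateRow Unit w) := by
    ext j j'
    simp only [Matrix.of_apply, Matrix.smul_apply, Matrix.add_apply, Matrix.one_apply,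
      Matrix.mul_apply, Matrix.replicateCol_apply, Matrix.replicateRow_apply, smul_eq_mul]
    simp only [Finset.univ_unique, Finset.sum_singleton]
    split_ifs
    · field_simp
      ring
    · field_simp
      ring
  rw [h1, Matrix.det_smul, Matrix.det_one_add_replicateCol_mul_replicateRow, Fintype.card_fin]
  have h2 : w ⬝ᵥ (fun j => -(u j) / n) = - r / n := by
    rw [dotProduct]
    have h3 : ∀ j, w j * (-(u j) / n) = -1 / n := by
      intro j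
      rw [← h j]; ring
    simp only [h3]
    rw [Finset.sum_const, Finset.card_univ, Fintype.card_fin, nsmul_eq_mul]
    ring
  rw [h2]
  have h5 : n ^ r = n * n ^ (r - 1) := by
    rw [← pow_succ']; congr 1; omega
  rw [h5]
  field_simp
  ring

/-- The sum of products of alternants over `r`-subsets of `{0, …, n - 2}`. -/
lemma sum_strictAnti_B {r k n : ℕ} (hr : 1 ≤ r) (hn : n + 1 = r + k) (v : Fin r → ℤ)
    (hv : StrictAnti v) (hvb : ∀ i, 0 ≤ v i ∧ v i < ((r + k : ℕ) : ℤ)) :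
    ∑ ℓ ∈ (Finset.univ : Finset (Fin r → Fin n)).filter (fun ℓ => StrictAnti ℓ),
      B (r + k) (fun i => ((ℓ i : ℕ) : ℤ)) (fun j => (v j : ℝ)) *
      B (r + k) (fun i => ((ℓ i : ℕ) : ℤ)) (fun j => -(v j : ℝ)) =
      (k : ℂ) * ((r : ℂ) + k) ^ (r - 1) := by
  classical
  have hrk : 0 < r + k := by omega
  have hrk' : ((r + k : ℕ) : ℝ) ≠ 0 := by positivity
  have h := sum_strictAnti_det_mul_det
    (fun (l : Fin n) (j : Fin r) => E ((((l : ℕ) : ℤ) : ℝ) * (v j : ℝ) / ((r + k : ℕ) : ℝ)))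
    (fun (l : Fin n) (j : Fin r) => E ((((l : ℕ) : ℤ) : ℝ) * (-(v j : ℝ)) / ((r + k : ℕ) : ℝ)))
  have h1 : (Matrix.of fun j j' : Fin r => ∑ l : Fin n,
      E ((((l : ℕ) : ℤ) : ℝ) * (v j : ℝ) / ((r + k : ℕ) : ℝ)) *
      E ((((l : ℕ) : ℤ) : ℝ) * (-(v j' : ℝ)) / ((r + k : ℕ) : ℝ))) =
      (Matrix.of fun j j' : Fin r => (if j = j' then ((r + k : ℕ) : ℂ) else 0) -
        E (-((v j : ℝ)) / ((r + k : ℕ) : ℝ)) * E ((v j' : ℝ) / ((r + k : ℕ) : ℝ))) := by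
    ext j j'
    simp only [Matrix.of_apply]
    have h2 := sum_E hrk (v j - v j')
    have h3 : (if ((r + k : ℕ) : ℤ) ∣ v j - v j' then ((r + k : ℕ) : ℂ) else 0) =
        if j = j' then ((r + k : ℕ) : ℂ) else 0 := by
      by_cases hjj : j = j'
      · subst hjj; simp
      · rw [if_neg, if_neg hjj]
        rintro ⟨m, hm⟩
        have h5 := hvb j
        have h6 := hvb j'
        have h7 : m = 0 := by
          have : m < 1 := by nlinarith
          have : -1 < m := by nlinarith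
          omega
        rw [h7, mul_zero] at hm
        exact hjj (hv.injective (by linarith))
    rw [h3] at h2
    rw [← h2]
    have h4 : ∑ l : Fin (r + k), E (((l : ℕ) : ℝ) * ((v j - v j' : ℤ) : ℝ) / ((r + k : ℕ) : ℝ)) =
        ∑ l : Fin (n + 1), E (((l : ℕ) : ℝ) * ((v j - v j' : ℤ) : ℝ) / ((r + k : ℕ) : ℝ)) := by
      rw [Fin.sum_univ_eq_sum_range
        (fun l => E (((l : ℕ) : ℝ) * ((v j - v j' : ℤ) : ℝ) / ((r + k : ℕ) : ℝ))),
        Fin.sum_univ_eq_sum_range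
        (fun l => E (((l : ℕ) : ℝ) * ((v j - v j' : ℤ) : ℝ) / ((r + k : ℕ) : ℝ))), hn]
    rw [h4, Fin.sum_univ_castSucc]
    have h6 : E (((Fin.last n : Fin (n + 1)) : ℕ) * ((v j - v j' : ℤ) : ℝ) / ((r + k : ℕ) : ℝ)) =
        E (-((v j : ℝ)) / ((r + k : ℕ) : ℝ)) * E ((v j' : ℝ) / ((r + k : ℕ) : ℝ)) := by
      rw [← E_add]
      have h7 : (((Fin.last n : Fin (n + 1)) : ℕ) : ℝ) = ((r + k : ℕ) : ℝ) - 1 := by
        rw [← hn]; simp
      have h8 : (((Fin.last n : Fin (n + 1)) : ℕ) : ℝ) * ((v j - v j' : ℤ) : ℝ) /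
          ((r + k : ℕ) : ℝ) = ((v j - v j' : ℤ) : ℝ) +
          (-((v j : ℝ)) / ((r + k : ℕ) : ℝ) + (v j' : ℝ) / ((r + k : ℕ) : ℝ)) := by
        rw [h7]; push_cast; field_simp
        ring
      rw [h8, E_add, E_intCast, one_mul]
    rw [h6, add_sub_cancel_right]
    refine Finset.sum_congr rfl fun l _ => ?_
    rw [← E_add]
    congr 1
    simp only [Fin.val_castSucc]
    push_cast
    ring
  rw [h1] at h
  have h5 := det_sub_rank_one (r := r) ((r + k : ℕ) : ℂ) (by exact_mod_cast hrk.ne') hr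
    (fun j => E (-((v j : ℝ)) / ((r + k : ℕ) : ℝ))) (fun j => E ((v j : ℝ) / ((r + k : ℕ) : ℝ)))
    (fun j => by rw [← E_add, ← add_div]; simp)
  have h7 : ((r + k : ℕ) : ℂ) ^ (r - 1) * (((r + k : ℕ) : ℂ) - r) =
      (k : ℂ) * ((r : ℂ) + k) ^ (r - 1) := by push_cast; ring
  rw [← h7, ← h5, ← h]
  rfl

/-- S18377. -/
theorem S18377 (r k : ℕ) (hr : 1 ≤ r) (hk : 1 ≤ k)
    (v : Fin r → ℕ) (hv : StrictAnti v) (hvlt : ∀ i, v i < r + k)
    (z : Fin r → ℂ) (hz : ∀ j, z j = Complex.exp (2 * Real.pi * Complex.I * (v j : ℂ) / ((r : ℂ) + k)))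
    (S : (Fin r → ℕ) → ℂ)
    (hS : ∀ μ : Fin r → ℕ, S μ =
      (Matrix.of fun i j : Fin r => z j ^ (μ i + (r - 1 - (i : ℕ)))).det /
        (Matrix.of fun i j : Fin r => z j ^ (r - 1 - (i : ℕ))).det) :
    (∑ μ ∈ (Finset.univ : Finset (Fin r → Fin k)).filter (fun μ : Fin r → Fin k => Antitone μ),
        S (fun i => (μ i : ℕ)) * S (fun i => k - (μ (Fin.rev i) : ℕ))) =
      Complex.exp (2 * Real.pi * Complex.I * (k : ℂ) * ((∑ j, v j : ℕ) : ℂ) / ((r : ℂ) + k)) *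
        ((k : ℂ) * ((r : ℂ) + k) ^ (r - 1)) /
        (∏ p ∈ (Finset.univ : Finset (Fin r × Fin r)).filter (fun p => p.1 < p.2),
          (((2 : ℝ) * Real.sin (Real.pi * ((v p.1 : ℝ) - (v p.2 : ℝ)) / ((r : ℝ) + k))) ^ 2 : ℝ) : ℂ) := by
  classical
  have hrk : 0 < r + k := by omega
  have hvz : StrictAnti (fun i => (v i : ℤ)) := fun a b hab => by
    have := hv hab; show ((v b : ℤ)) < (v a : ℤ); exact_mod_cast this
  have hvb : ∀ i, 0 ≤ (v i : ℤ) ∧ (v i : ℤ) < ((r + k : ℕ) : ℤ) := fun i => by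
    have := hvlt i; omega
  obtain ⟨n, hn⟩ : ∃ n, n + 1 = r + k := ⟨r + k - 1, by omega⟩
  set D : ℂ := B (r + k) (dl r) (fun j => (((v j : ℕ) : ℤ) : ℝ)) with hD
  set D' : ℂ := B (r + k) (dl r) (fun j => -(((v j : ℕ) : ℤ) : ℝ)) with hD'
  have hP : (∏ p ∈ (Finset.univ : Finset (Fin r × Fin r)).filter (fun p => p.1 < p.2),
          (((2 : ℝ) * Real.sin (Real.pi * ((v p.1 : ℝ) - (v p.2 : ℝ)) / ((r : ℝ) + k))) ^ 2 : ℝ) : ℂ) =
      D * D' := by
    have h := P_eq (r := r) (k := k) v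
    rw [← hD, ← hD'] at h
    rw [← h]
    push_cast
    rfl
  have hph : Complex.exp (2 * Real.pi * Complex.I * (k : ℂ) * ((∑ j, v j : ℕ) : ℂ) /
      ((r : ℂ) + k)) = E (k * (∑ j, (((v j : ℕ) : ℤ) : ℝ)) / ((r + k : ℕ) : ℝ)) := by
    rw [E]; congr 1; push_cast; ring
  rw [hP, hph]
  have key := sum_part_lt_eq (r := r) (k := k) (n := n) hk hn (fun μ : Fin r → ℕ =>
      S μ * S (fun i => k - (μ (Fin.rev i) : ℕ)))
    (fun ℓ => E (k * (∑ j, (((v j : ℕ) : ℤ) : ℝ)) / ((r + k : ℕ) : ℝ)) / (D * D') *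
      (B (r + k) (fun i => ((ℓ i : ℕ) : ℤ)) (fun j => (((v j : ℕ) : ℤ) : ℝ)) *
      B (r + k) (fun i => ((ℓ i : ℕ) : ℤ)) (fun j => -(((v j : ℕ) : ℤ) : ℝ)))) (by
      intro μ ℓ hμk hμ hℓ
      have h1 := S_eq (r := r) (k := k) v z hz μ
      have h2 := S_eq (r := r) (k := k) v z hz (fun i => k - μ (Fin.rev i))
      have h3 := schur_dual (r := r) (k := k) (r + k) rfl hrk (fun i => (μ i : ℤ) + dl r i)
        (fun i => ((k - μ (Fin.rev i) : ℕ) : ℤ) + dl r i) (dual_index μ (fun i => (hμk i).le))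
        (fun j => (((v j : ℕ) : ℤ) : ℝ))
      rw [hS, hS, h1, h2, h3]
      have h4 : (fun i => ((ℓ i : ℕ) : ℤ)) = (fun i => (μ i : ℤ) + dl r i) := by
        funext i; rw [hℓ i]; simp only [dl]; push_cast; rfl
      rw [h4, ← hD, ← hD']
      ring)
  rw [key, ← Finset.mul_sum, sum_strictAnti_B hr hn (fun j => (v j : ℤ)) hvz hvb]
  ring

end K289.Verlinde
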