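import Groth.Agent.VerlindeComb.K289.Schur

set_option autoImplicit false

namespace K289.Verlinde

open Finset

lemma dl_strictAnti (r : ℕ) : StrictAnti (dl r) := by
  intro a b hab
  simp only [dl]
  have h1 : (a : ℕ) < (b : ℕ) := hab
  have h2 := b.isLt
  omega

lemma dl_bound (r n : ℕ) (h : r ≤ n) (i : Fin r) : 0 ≤ dl r i ∧ dl r i < n := by
  have := i.isLt
  simp only [dl]
  omega

lemma sum_P (r n : ℕ) (hr : 1 ≤ r) (hn : r ≤ n) :
    ∑ ℓ ∈ alc r n, B n (dl r) (fun j => (ℓ j : ℝ)) * B n (dl r) (fun j => -(ℓ j : ℝ)) =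
      r * (n : ℂ) ^ (r - 1) := by
  rw [← core_eq hr (by omega) (dl r) (dl_strictAnti r) (dl_bound r n hn)]
  refine Finset.sum_congr rfl fun ℓ _ => ?_
  rw [B_transpose, B_transpose_neg]

/-- S18379. -/
theorem S18379 (r k : ℕ) (hr : 1 ≤ r) :
    (∑ v ∈ (Finset.univ : Finset (Fin r → Fin (r + k))).filter
        (fun v : Fin r → Fin (r + k) => StrictAnti v ∧ ∀ i : Fin r, (i : ℕ) = r - 1 → (v i : ℕ) = 0),
      ∏ p ∈ (Finset.univ : Finset (Fin r × Fin r)).filter (fun p => p.1 < p.2),
        ((2 : ℝ) * Real.sin (Real.pi * ((v p.1 : ℕ) - (v p.2 : ℕ) : ℝ) / ((r : ℝ) + k))) ^ 2) =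
      (r : ℝ) * ((r : ℝ) + k) ^ (r - 1) := by
  apply Complex.ofReal_injective
  have h := sum_P r (r + k) hr (by omega)
  rw [← sum_alc_eq (fun ℓ => B (r + k) (dl r) (fun j => (ℓ j : ℝ)) *
    B (r + k) (dl r) (fun j => -(ℓ j : ℝ)))] at h
  rw [Complex.ofReal_sum]
  rw [Complex.ofReal_mul, Complex.ofReal_pow]
  push_cast at h ⊢
  rw [← h]
  refine Finset.sum_congr rfl fun v _ => ?_
  rw [← prod_sin_eq]
  refine Finset.prod_congr rfl fun p _ => ?_
  push_cast
  rfl

/-- The reindexing between partitions and strictly decreasing vectors. -/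
lemma sum_part_eq {r k : ℕ} (f : (Fin r → ℕ) → ℂ) (g : (Fin r → ℤ) → ℂ)
    (hfg : ∀ μ : Fin r → ℕ, (∀ i, μ i ≤ k) → Antitone μ → f μ = g (fun i => (μ i : ℤ) + dl r i))
    [DecidablePred (fun μ : Fin r → Fin (k + 1) => Antitone μ ∧
      ∀ i : Fin r, (i : ℕ) = r - 1 → (μ i : ℕ) = 0)] :
    ∑ μ ∈ (Finset.univ : Finset (Fin r → Fin (k + 1))).filter
        (fun μ : Fin r → Fin (k + 1) => Antitone μ ∧ ∀ i : Fin r, (i : ℕ) = r - 1 → (μ i : ℕ) = 0),
      f (fun i => (μ i : ℕ)) = ∑ ℓ ∈ alc r (r + k), g ℓ := by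
  refine Finset.sum_bij (fun μ _ => fun i => ((μ i : ℕ) : ℤ) + dl r i) ?_ ?_ ?_ ?_
  · intro μ hμ
    simp only [mem_filter, mem_univ, true_and] at hμ
    rw [mem_alc]
    refine ⟨fun i => ?_, ?_, ?_⟩
    · have h1 := (μ i).isLt
      have h2 := i.isLt
      simp only [dl]
      omega
    · intro a b hab
      have h1 : (μ b : ℕ) ≤ μ a := hμ.1 hab.le
      have h2 := dl_strictAnti r hab
      show ((μ b : ℕ) : ℤ) + dl r b < ((μ a : ℕ) : ℤ) + dl r a
      omega
    · intro i hi
      have h1 := hμ.2 i hi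
      simp only [dl, h1, hi]
      simp
  · intro μ _ μ' _ h
    funext i
    have := congrFun h i
    simp only [add_left_inj] at this
    ext
    exact_mod_cast this
  · intro ℓ hℓ
    rw [mem_alc] at hℓ
    obtain ⟨h1, h2, h3⟩ := hℓ
    -- ℓ i - dl r i is antitone
    have hanti : Antitone (fun i => ℓ i - dl r i) := by
      intro a b hab
      have key : ∀ (d : ℕ) (a b : Fin r), (b : ℕ) = a + d → ℓ b + d ≤ ℓ a := by
        intro d
        induction d with
        | zero =>
          intro a b h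
          have : a = b := by ext; omega
          subst this; simp
        | succ d ih =>
          intro a b h
          have hlt := b.isLt
          let c : Fin r := ⟨a + d, by omega⟩
          have h4 := ih a c rfl
          have h5 : ℓ b < ℓ c := h2 (by rw [Fin.lt_def, h]; show (a : ℕ) + d < a + (d + 1); omega)
          push_cast
          omega
      have h4 := key (b - a) a b (by have : (a : ℕ) ≤ b := hab; omega)
      have h5 : (a : ℕ) ≤ b := hab
      have h6 := b.isLt
      show ℓ b - dl r b ≤ ℓ a - dl r a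
      simp only [dl]
      omega
    have hr : ∀ i : Fin r, 0 ≤ ℓ i - dl r i := by
      intro i
      have hlt := i.isLt
      let l : Fin r := ⟨r - 1, by omega⟩
      have h4 := hanti (show i ≤ l by rw [Fin.le_def]; show (i : ℕ) ≤ r - 1; omega)
      have h5 := h3 l rfl
      simp only at h4
      rw [h5] at h4
      have h6 : dl r l = 0 := by simp [dl, l]
      rw [h6] at h4
      omega
    have hk : ∀ i : Fin r, ℓ i - dl r i ≤ k := by
      intro i
      have hlt := i.isLt
      let l : Fin r := ⟨0, by omega⟩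
      have h4 := hanti (show l ≤ i by rw [Fin.le_def]; show 0 ≤ (i : ℕ); omega)
      have h5 := h1 l
      simp only at h4
      have h6 : dl r l = ((r - 1 : ℕ) : ℤ) := by simp [dl, l]
      rw [h6] at h4
      push_cast at h5
      omega
    refine ⟨fun i => ⟨(ℓ i - dl r i).toNat, by have := hr i; have := hk i; omega⟩, ?_, ?_⟩
    · simp only [mem_filter, mem_univ, true_and]
      refine ⟨?_, ?_⟩
      · intro a b hab
        have h4 := hanti hab
        have h5 := hr a
        have h6 := hr b
        show (ℓ b - dl r b).toNat ≤ (ℓ a - dl r a).toNat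
        simp only at h4
        omega
      · intro i hi
        have h4 := h3 i hi
        have h5 : dl r i = 0 := by simp [dl, hi]
        simp [h4, h5]
    · funext i
      have := hr i
      simp only
      omega
  · intro μ hμ
    simp only [mem_filter, mem_univ, true_and] at hμ
    refine hfg _ (fun i => by have := (μ i).isLt; omega) ?_
    intro a b hab
    exact hμ.1 hab

end K289.Verlinde
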