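import Groth.Agent.VerlindeComb.K289.Main3

set_option autoImplicit false

namespace K289.Verlinde

open Finset

lemma card_key {r k : ℕ} (μ : Fin r → Fin k) :
    (∑ i, (μ i : ℕ)) + (∑ i, (k - (μ (Fin.rev i) : ℕ))) = r * k := by
  rw [show ∑ i, (μ i : ℕ) = ∑ i, (μ (Fin.rev i) : ℕ) from
      (Equiv.sum_comp Fin.revPerm (fun i => (μ i : ℕ))).symm,
    ← Finset.sum_add_distrib]
  rw [Finset.sum_congr rfl (fun i _ => Nat.add_sub_cancel' (μ (Fin.rev i)).isLt.le)]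
  simp

/-- S18381. -/
theorem S18381 (r k : ℕ) (hr : 1 ≤ r) (hk : 1 ≤ k)
    (g : ℕ) (d : ℤ) (ι : Type) [Fintype ι] (lam : ι → Fin r → ℕ)
    (z : (Fin r → ℕ) → Fin r → ℂ)
    (hz : ∀ v j, z v j = Complex.exp (2 * Real.pi * Complex.I * (v j : ℂ) / ((r : ℂ) + k)))
    (S : (Fin r → ℕ) → (Fin r → ℕ) → ℂ)
    (hS : ∀ μ v, S μ v = (Matrix.of fun i j : Fin r => z v j ^ (μ i + (r - 1 - (i : ℕ)))).det /
        (Matrix.of fun i j : Fin r => z v j ^ (r - 1 - (i : ℕ))).det)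
    (P : (Fin r → ℕ) → ℝ)
    (hP : ∀ v, P v = ∏ p ∈ (Finset.univ : Finset (Fin r × Fin r)).filter (fun p => p.1 < p.2),
        ((2 : ℝ) * Real.sin (Real.pi * ((v p.1 : ℝ) - (v p.2 : ℝ)) / ((r : ℝ) + k))) ^ 2)
    (V : ℕ → ℤ → ℕ → ((Fin r → ℕ) → ℂ) → ℂ)
    (hV : ∀ (g' : ℕ) (d' : ℤ) (w : ℕ) (Sω : (Fin r → ℕ) → ℂ), V g' d' w Sω =
        (-1 : ℂ) ^ (d' * ((r : ℤ) - 1)) * ((k : ℂ) / r) ^ g' *
          ((((r : ℂ) * ((r : ℂ) + k) ^ (r - 1)) ^ g') / ((r : ℂ) * ((r : ℂ) + k) ^ (r - 1))) *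
          ∑ v ∈ (Finset.univ : Finset (Fin r → Fin (r + k))).filter
            (fun v : Fin r → Fin (r + k) => StrictAnti v ∧ ∀ i : Fin r, (i : ℕ) = r - 1 → (v i : ℕ) = 0),
            Complex.exp (2 * Real.pi * Complex.I * ((d' : ℂ) / r - (w : ℂ) / ((r : ℂ) * ((r : ℂ) + k))) *
                ((∑ j, (v j : ℕ) : ℕ) : ℂ)) *
              Sω (fun j => (v j : ℕ)) *
              (((P (fun j => (v j : ℕ)) : ℂ)) / ((P (fun j => (v j : ℕ)) : ℂ)) ^ g')) :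
    V (g + 1) d (∑ x, ∑ i, lam x i) (fun v => ∏ x, S (lam x) v) =
      ∑ μ ∈ (Finset.univ : Finset (Fin r → Fin k)).filter (fun μ : Fin r → Fin k => Antitone μ),
        V g d ((∑ x, ∑ i, lam x i) + (∑ i, (μ i : ℕ)) + (∑ i, (k - (μ (Fin.rev i) : ℕ))))
          (fun v => (∏ x, S (lam x) v) * S (fun i => (μ i : ℕ)) v *
            S (fun i => k - (μ (Fin.rev i) : ℕ)) v) := by
  classical
  have hrk : 0 < r + k := by omega
  have hr0 : (r : ℂ) ≠ 0 := by exact_mod_cast (by omega : r ≠ 0)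
  have hrk0 : (r : ℂ) + k ≠ 0 := by exact_mod_cast hrk.ne'
  set W : ℕ := ∑ x, ∑ i, lam x i with hW
  have hw : ∀ μ : Fin r → Fin k, W + (∑ i, (μ i : ℕ)) + (∑ i, (k - (μ (Fin.rev i) : ℕ))) =
      W + r * k := fun μ => by rw [add_assoc, card_key]
  simp only [hw, hV]
  rw [← Finset.mul_sum, Finset.sum_comm]
  -- termwise identity
  have hterm : ∀ v ∈ (Finset.univ : Finset (Fin r → Fin (r + k))).filter
      (fun v : Fin r → Fin (r + k) => StrictAnti v ∧ ∀ i : Fin r, (i : ℕ) = r - 1 → (v i : ℕ) = 0),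
      ∑ μ ∈ (Finset.univ : Finset (Fin r → Fin k)).filter (fun μ : Fin r → Fin k => Antitone μ),
        Complex.exp (2 * Real.pi * Complex.I *
          ((d : ℂ) / r - ((W + r * k : ℕ) : ℂ) / ((r : ℂ) * ((r : ℂ) + k))) *
                ((∑ j, (v j : ℕ) : ℕ) : ℂ)) *
              ((∏ x, S (lam x) (fun j => (v j : ℕ))) * S (fun i => (μ i : ℕ)) (fun j => (v j : ℕ)) *
            S (fun i => k - (μ (Fin.rev i) : ℕ)) (fun j => (v j : ℕ))) *
              (((P (fun j => (v j : ℕ)) : ℂ)) / ((P (fun j => (v j : ℕ)) : ℂ)) ^ g) =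
      ((k : ℂ) * ((r : ℂ) + k) ^ (r - 1)) *
        (Complex.exp (2 * Real.pi * Complex.I *
          ((d : ℂ) / r - ((W : ℕ) : ℂ) / ((r : ℂ) * ((r : ℂ) + k))) *
                ((∑ j, (v j : ℕ) : ℕ) : ℂ)) *
              (∏ x, S (lam x) (fun j => (v j : ℕ))) *
              (((P (fun j => (v j : ℕ)) : ℂ)) / ((P (fun j => (v j : ℕ)) : ℂ)) ^ (g + 1))) := by
    intro v hv
    simp only [mem_filter, mem_univ, true_and] at hv
    have hva : StrictAnti (fun j => (v j : ℕ)) := fun a b hab => hv.1 hab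
    have h77 := S18377 r k hr hk (fun j => (v j : ℕ)) hva (fun i => (v i).isLt)
      (z (fun j => (v j : ℕ))) (hz (fun j => (v j : ℕ))) (fun μ => S μ (fun j => (v j : ℕ)))
      (fun μ => hS μ (fun j => (v j : ℕ)))
    have hPv : (∏ p ∈ (Finset.univ : Finset (Fin r × Fin r)).filter (fun p => p.1 < p.2),
          (((2 : ℝ) * Real.sin (Real.pi * (((v p.1 : ℕ) : ℝ) - ((v p.2 : ℕ) : ℝ)) /
            ((r : ℝ) + k))) ^ 2 : ℝ) : ℂ) = (P (fun j => (v j : ℕ)) : ℂ) := by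
      rw [hP]
      push_cast
      rfl
    have hP0 : (P (fun j => (v j : ℕ)) : ℂ) ≠ 0 := by
      have h := P_eq (r := r) (k := k) (fun j => (v j : ℕ))
      rw [hP, h]
      have hvb : ∀ i, 0 ≤ ((v i : ℕ) : ℤ) ∧ ((v i : ℕ) : ℤ) < ((r + k : ℕ) : ℤ) := fun i => by
        have := (v i).isLt; omega
      have hvz : StrictAnti (fun i => ((v i : ℕ) : ℤ)) := fun a b hab => by
        have := hva hab
        show (((v b : ℕ) : ℤ)) < ((v a : ℕ) : ℤ)
        exact_mod_cast this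
      exact mul_ne_zero (B_dl_ne_zero hrk (fun i => ((v i : ℕ) : ℤ)) hvz hvb)
        (B_dl_neg_ne_zero hrk (fun i => ((v i : ℕ) : ℤ)) hvz hvb)
    rw [hPv] at h77
    set Pv : ℂ := (P (fun j => (v j : ℕ)) : ℂ) with hPvdef
    set X : ℂ := ∏ x, S (lam x) (fun j => (v j : ℕ)) with hX
    have h1 : ∀ μ : Fin r → Fin k, Complex.exp (2 * Real.pi * Complex.I *
          ((d : ℂ) / r - ((W + r * k : ℕ) : ℂ) / ((r : ℂ) * ((r : ℂ) + k))) *
                ((∑ j, (v j : ℕ) : ℕ) : ℂ)) *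
              (X * S (fun i => (μ i : ℕ)) (fun j => (v j : ℕ)) *
            S (fun i => k - (μ (Fin.rev i) : ℕ)) (fun j => (v j : ℕ))) * (Pv / Pv ^ g) =
        (Complex.exp (2 * Real.pi * Complex.I *
          ((d : ℂ) / r - ((W + r * k : ℕ) : ℂ) / ((r : ℂ) * ((r : ℂ) + k))) *
                ((∑ j, (v j : ℕ) : ℕ) : ℂ)) * X * (Pv / Pv ^ g)) *
          (S (fun i => (μ i : ℕ)) (fun j => (v j : ℕ)) *
            S (fun i => k - (μ (Fin.rev i) : ℕ)) (fun j => (v j : ℕ))) := by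
      intro μ; ring
    simp only [h1]
    rw [← Finset.mul_sum, h77]
    have h2 : Complex.exp (2 * Real.pi * Complex.I *
          ((d : ℂ) / r - ((W + r * k : ℕ) : ℂ) / ((r : ℂ) * ((r : ℂ) + k))) *
                ((∑ j, (v j : ℕ) : ℕ) : ℂ)) *
        Complex.exp (2 * Real.pi * Complex.I * (k : ℂ) * ((∑ j, (v j : ℕ) : ℕ) : ℂ) /
          ((r : ℂ) + k)) =
        Complex.exp (2 * Real.pi * Complex.I *
          ((d : ℂ) / r - ((W : ℕ) : ℂ) / ((r : ℂ) * ((r : ℂ) + k))) *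
                ((∑ j, (v j : ℕ) : ℕ) : ℂ)) := by
      rw [← Complex.exp_add]
      congr 1
      push_cast
      field_simp
      ring
    rw [← h2, pow_succ]
    field_simp
  rw [Finset.sum_congr rfl hterm, ← Finset.mul_sum]
  rw [pow_succ, pow_succ]
  field_simp

end K289.Verlinde
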