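import Groth.Agent.VerlindeComb.K289.Main

set_option autoImplicit false

namespace K289.Verlinde

open Finset

/-- The shape of a Schur value. -/
lemma S_eq {r k : ℕ} (v : Fin r → ℕ) (z : Fin r → ℂ)
    (hz : ∀ j, z j = Complex.exp (2 * Real.pi * Complex.I * (v j : ℂ) / ((r : ℂ) + k)))
    (μ : Fin r → ℕ) :
    (Matrix.of fun i j : Fin r => z j ^ (μ i + (r - 1 - (i : ℕ)))).det /
        (Matrix.of fun i j : Fin r => z j ^ (r - 1 - (i : ℕ))).det =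
      B (r + k) (fun i => (μ i : ℤ) + dl r i) (fun j => (((v j : ℕ) : ℤ) : ℝ)) /
        B (r + k) (dl r) (fun j => (((v j : ℕ) : ℤ) : ℝ)) := by
  rw [det_eq_B v z hz (fun i => μ i + (r - 1 - (i : ℕ))), det_eq_B v z hz (fun i => r - 1 - (i : ℕ))]
  congr 1

lemma add_dl_strictAnti {r : ℕ} (μ : Fin r → ℕ) (h : Antitone μ) :
    StrictAnti (fun i => (μ i : ℤ) + dl r i) := by
  intro a b hab
  have h1 : μ b ≤ μ a := h hab.le
  have h2 := dl_strictAnti r hab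
  show (μ b : ℤ) + dl r b < (μ a : ℤ) + dl r a
  omega

lemma add_dl_bound {r k : ℕ} (μ : Fin r → ℕ) (h : ∀ i, μ i ≤ k) (i : Fin r) :
    0 ≤ (μ i : ℤ) + dl r i ∧ (μ i : ℤ) + dl r i < ((r + k : ℕ) : ℤ) := by
  have h1 := h i
  have h2 := i.isLt
  simp only [dl]
  omega

lemma dual_index {r k : ℕ} (μ : Fin r → ℕ) (h : ∀ i, μ i ≤ k) (i : Fin r) :
    ((k - μ (Fin.rev i) : ℕ) : ℤ) + dl r i =
      (((r + k : ℕ) : ℤ) - 1) - ((μ (Fin.rev i) : ℤ) + dl r (Fin.rev i)) := by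
  have h1 := h (Fin.rev i)
  have h2 := i.isLt
  simp only [dl, Fin.val_rev]
  omega

lemma sum_dual {r k : ℕ} (μ : Fin r → ℕ) (h : ∀ i, μ i ≤ k) :
    ((∑ i, (k - μ (Fin.rev i)) : ℕ) : ℝ) = r * k - ((∑ i, μ i : ℕ) : ℝ) := by
  have h1 : ∑ i, (k - μ (Fin.rev i)) + ∑ i, μ i = r * k := by
    rw [show ∑ i, μ i = ∑ i, μ (Fin.rev i) from (Equiv.sum_comp Fin.revPerm μ).symm,
      ← Finset.sum_add_distrib]
    rw [Finset.sum_congr rfl (fun i _ => Nat.sub_add_cancel (h (Fin.rev i)))]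
    simp
  have h2 : ((∑ i, (k - μ (Fin.rev i)) : ℕ) : ℝ) + ((∑ i, μ i : ℕ) : ℝ) = r * k := by
    exact_mod_cast h1
  linarith

lemma P_eq {r k : ℕ} (v : Fin r → ℕ) :
    (((∏ p ∈ (Finset.univ : Finset (Fin r × Fin r)).filter (fun p => p.1 < p.2),
        ((2 : ℝ) * Real.sin (Real.pi * ((v p.1 : ℝ) - (v p.2 : ℝ)) / ((r : ℝ) + k))) ^ 2 : ℝ)) : ℂ) =
      B (r + k) (dl r) (fun j => (((v j : ℕ) : ℤ) : ℝ)) *
        B (r + k) (dl r) (fun j => -(((v j : ℕ) : ℤ) : ℝ)) := by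
  rw [← prod_sin_eq]
  push_cast
  rfl

/-- S19895. -/
theorem S19895 (r k : ℕ) (hr : 1 ≤ r) (lam lam' : Fin r → ℕ) (hlam : Antitone lam)
    (hlamk : ∀ i, lam i ≤ k)
    (hlam0 : ∀ i : Fin r, (i : ℕ) = r - 1 → lam i = 0)
    (hlam' : Antitone lam') (hlam'k : ∀ i, lam' i ≤ k) (hlam'0 : ∀ i : Fin r, (i : ℕ) = r - 1 → lam' i = 0)
    (hne : ¬ ∃ a : ℤ, ∀ i, (lam i : ℤ) - ((k - lam' (Fin.rev i) : ℕ) : ℤ) = a)
    (z : (Fin r → ℕ) → Fin r → ℂ)
    (hz : ∀ v j, z v j = Complex.exp (2 * Real.pi * Complex.I * (v j : ℂ) / ((r : ℂ) + k)))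
    (S : (Fin r → ℕ) → (Fin r → ℕ) → ℂ)
    (hS : ∀ μ v, S μ v = (Matrix.of fun i j : Fin r => z v j ^ (μ i + (r - 1 - (i : ℕ)))).det /
        (Matrix.of fun i j : Fin r => z v j ^ (r - 1 - (i : ℕ))).det)
    (P : (Fin r → ℕ) → ℝ)
    (hP : ∀ v, P v = ∏ p ∈ (Finset.univ : Finset (Fin r × Fin r)).filter (fun p => p.1 < p.2),
        ((2 : ℝ) * Real.sin (Real.pi * ((v p.1 : ℝ) - (v p.2 : ℝ)) / ((r : ℝ) + k))) ^ 2) :
    (∑ v ∈ (Finset.univ : Finset (Fin r → Fin (r + k))).filter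
        (fun v : Fin r → Fin (r + k) => StrictAnti v ∧ ∀ i : Fin r, (i : ℕ) = r - 1 → (v i : ℕ) = 0),
      Complex.exp (-(2 * Real.pi * Complex.I * (((∑ i, lam i) + (∑ i, lam' i) : ℕ) : ℂ) *
          ((∑ j, (v j : ℕ) : ℕ) : ℂ) / ((r : ℂ) * ((r : ℂ) + k)))) *
        S lam (fun j => (v j : ℕ)) * S lam' (fun j => (v j : ℕ)) * (P (fun j => (v j : ℕ)) : ℂ)) = 0 := by
  classical
  have hrk : 0 < r + k := by omega
  -- the dual partition
  let ls : Fin r → ℕ := fun i => k - lam' (Fin.rev i)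
  have hlsk : ∀ i, ls i ≤ k := fun i => Nat.sub_le _ _
  have hls : Antitone ls := by
    intro a b hab
    have := hlam' (Fin.rev_le_rev.2 hab)
    show k - lam' (Fin.rev b) ≤ k - lam' (Fin.rev a)
    omega
  have hlss : ∀ i, k - ls (Fin.rev i) = lam' i := by
    intro i
    show k - (k - lam' (Fin.rev (Fin.rev i))) = lam' i
    rw [Fin.rev_rev]
    have := hlam'k i
    omega
  have hcore := core_zero hr hrk (fun i => (lam i : ℤ) + dl r i) (fun i => (ls i : ℤ) + dl r i)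
    (add_dl_strictAnti lam hlam) (add_dl_strictAnti ls hls) (add_dl_bound lam hlamk)
    (add_dl_bound ls hlsk) (by
      rintro ⟨a, ha⟩
      exact hne ⟨a, fun i => by have := ha i; simp only [ls] at this; linarith⟩)
  rw [← sum_alc_eq] at hcore
  rw [← hcore]
  refine Finset.sum_congr rfl fun v hv => ?_
  simp only [mem_filter, mem_univ, true_and] at hv
  set vz : Fin r → ℤ := fun j => ((v j : ℕ) : ℤ) with hvz
  have hvb : ∀ i, 0 ≤ vz i ∧ vz i < ((r + k : ℕ) : ℤ) := by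
    intro i
    have := (v i).isLt
    simp only [hvz]
    omega
  have hva : StrictAnti vz := by
    intro a b hab
    have h1 : (v b : ℕ) < v a := hv.1 hab
    show ((v b : ℕ) : ℤ) < ((v a : ℕ) : ℤ)
    exact_mod_cast h1
  have hD := B_dl_ne_zero hrk vz hva hvb
  have hD' := B_dl_neg_ne_zero hrk vz hva hvb
  have hPv : ((P (fun j => (v j : ℕ)) : ℝ) : ℂ) =
      B (r + k) (dl r) (fun j => ((vz j : ℤ) : ℝ)) *
        B (r + k) (dl r) (fun j => -((vz j : ℤ) : ℝ)) := by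
    have h := P_eq (r := r) (k := k) (fun j => (v j : ℕ))
    rw [hP, h]
  have hSv : ∀ μ : Fin r → ℕ, S μ (fun j => (v j : ℕ)) =
      B (r + k) (fun i => (μ i : ℤ) + dl r i) (fun j => ((vz j : ℤ) : ℝ)) /
        B (r + k) (dl r) (fun j => ((vz j : ℤ) : ℝ)) := by
    intro μ
    have h := S_eq (r := r) (k := k) (fun j => (v j : ℕ)) (z (fun j => (v j : ℕ)))
      (fun j => hz (fun j => (v j : ℕ)) j) μ
    rw [hS, h]
  rw [hPv, hSv, hSv]
  have h1 := schur_dual (r := r) (k := k) (r + k) rfl hrk (fun i => (ls i : ℤ) + dl r i)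
    (fun i => (lam' i : ℤ) + dl r i) (by
      intro i
      have := dual_index ls hlsk i
      rw [hlss] at this
      exact this) (fun j => ((vz j : ℤ) : ℝ))
  have e1 : (fun j => (((v j : ℕ) : ℤ) : ℝ)) = fun j => ((vz j : ℤ) : ℝ) := rfl
  rw [h1]
  have h2 : ((∑ i, (ls i : ℝ))) = r * k - ∑ i, (lam' i : ℝ) := by
    have := sum_dual lam' hlam'k
    push_cast at this
    rw [← this]
  have hphase : Complex.exp (-(2 * Real.pi * Complex.I * (((∑ i, lam i) + (∑ i, lam' i) : ℕ) : ℂ) *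
          ((∑ j, (v j : ℕ) : ℕ) : ℂ) / ((r : ℂ) * ((r : ℂ) + k)))) *
      E (k * (∑ j, ((vz j : ℤ) : ℝ)) / ((r + k : ℕ) : ℝ)) =
      E ((∑ i, ((vz i : ℤ) : ℝ)) * (-((∑ i, ((((lam i : ℤ) + dl r i : ℤ)) : ℝ)) -
        ∑ i, ((((ls i : ℤ) + dl r i : ℤ)) : ℝ)) / r) / ((r + k : ℕ) : ℝ)) := by
    have h3 : Complex.exp (-(2 * Real.pi * Complex.I * (((∑ i, lam i) + (∑ i, lam' i) : ℕ) : ℂ) *
          ((∑ j, (v j : ℕ) : ℕ) : ℂ) / ((r : ℂ) * ((r : ℂ) + k)))) =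
        E (-(((∑ i, (lam i : ℝ)) + ∑ i, (lam' i : ℝ)) * (∑ j, ((vz j : ℤ) : ℝ)) /
          (r * (r + k)))) := by
      rw [E]
      congr 1
      simp only [hvz]
      push_cast
      ring
    rw [h3, ← E_add]
    congr 1
    have hr' : (r : ℝ) ≠ 0 := by positivity
    have hrk' : (r : ℝ) + k ≠ 0 := by positivity
    push_cast
    rw [Finset.sum_add_distrib, Finset.sum_add_distrib, h2]
    field_simp
    ring
  have hBt1 : B (r + k) (fun i => (lam i : ℤ) + dl r i) (fun j => ((vz j : ℤ) : ℝ)) =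
      B (r + k) vz (fun j => ((((lam j : ℤ) + dl r j : ℤ)) : ℝ)) := B_transpose _ _ _
  have hBt2 : B (r + k) (fun i => (ls i : ℤ) + dl r i) (fun j => -((vz j : ℤ) : ℝ)) =
      B (r + k) vz (fun j => -((((ls j : ℤ) + dl r j : ℤ)) : ℝ)) := B_transpose_neg _ _ _
  rw [← hphase, ← hBt1, ← hBt2]
  field_simp

end K289.Verlinde
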