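import Groth.Agent.VerlindeComb.K289.Core
import Mathlib.Logic.Equiv.Fin.Rotate

set_option autoImplicit false

namespace K289.Verlinde

open Finset

/-- The alcove of strictly decreasing integer vectors in `[0, n)` whose last coordinate is `0`. -/
noncomputable def alc (r n : ℕ) : Finset (Fin r → ℤ) := by
  classical
  exact (Fintype.piFinset fun _ : Fin r => Finset.Ico (0 : ℤ) n).filter
    (fun ℓ => StrictAnti ℓ ∧ ∀ i : Fin r, (i : ℕ) = r - 1 → ℓ i = 0)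

lemma mem_alc {r n : ℕ} {ℓ : Fin r → ℤ} : ℓ ∈ alc r n ↔
    (∀ i, 0 ≤ ℓ i ∧ ℓ i < n) ∧ StrictAnti ℓ ∧ ∀ i : Fin r, (i : ℕ) = r - 1 → ℓ i = 0 := by
  simp [alc]

lemma sum_alc_eq {r n : ℕ} (f : (Fin r → ℤ) → ℂ)
    [DecidablePred (fun v : Fin r → Fin n => StrictAnti v ∧
      ∀ i : Fin r, (i : ℕ) = r - 1 → (v i : ℕ) = 0)] :
    ∑ v ∈ (univ : Finset (Fin r → Fin n)).filter
      (fun v : Fin r → Fin n => StrictAnti v ∧ ∀ i : Fin r, (i : ℕ) = r - 1 → (v i : ℕ) = 0),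
      f (fun i => ((v i : ℕ) : ℤ)) = ∑ ℓ ∈ alc r n, f ℓ := by
  refine Finset.sum_bij (fun v _ => fun i => ((v i : ℕ) : ℤ)) ?_ ?_ ?_ ?_
  · intro v hv
    simp only [mem_filter, mem_univ, true_and] at hv
    rw [mem_alc]
    refine ⟨fun i => ⟨by positivity, by exact_mod_cast (v i).isLt⟩, ?_, ?_⟩
    · intro a b hab
      have := hv.1 hab
      show ((v b : ℕ) : ℤ) < ((v a : ℕ) : ℤ)
      exact_mod_cast this
    · intro i hi
      have := hv.2 i hi
      exact_mod_cast this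
  · intro v _ w _ h
    funext i
    have := congrFun h i
    ext
    exact_mod_cast this
  · intro ℓ hℓ
    rw [mem_alc] at hℓ
    refine ⟨fun i => ⟨(ℓ i).toNat, by have := hℓ.1 i; omega⟩, ?_, ?_⟩
    · simp only [mem_filter, mem_univ, true_and]
      refine ⟨?_, ?_⟩
      · intro a b hab
        have h1 := hℓ.2.1 hab
        have h2 := hℓ.1 a
        have h3 := hℓ.1 b
        show (ℓ b).toNat < (ℓ a).toNat
        omega
      · intro i hi
        have := hℓ.2.2 i hi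
        simp [this]
    · funext i
      have := hℓ.1 i
      simp [this.1]
  · intro v _; rfl

/-- The rotation of the alcove. -/
def rot {s : ℕ} (n : ℕ) (ℓ : Fin (s + 2) → ℤ) : Fin (s + 2) → ℤ :=
  fun i => (Fin.cons (n : ℤ) (Fin.init ℓ) : Fin (s + 2) → ℤ) i + (- ℓ (Fin.castSucc (Fin.last s)))

lemma rot_mem {s n : ℕ} {ℓ : Fin (s + 2) → ℤ} (h : ℓ ∈ alc (s + 2) n) : rot n ℓ ∈ alc (s + 2) n := by
  rw [mem_alc] at h ⊢
  obtain ⟨h1, h2, h3⟩ := h
  have hlast : ℓ (Fin.last (s + 1)) = 0 := h3 _ (by simp)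
  have hc : 0 < ℓ (Fin.castSucc (Fin.last s)) := by
    rw [← hlast]; exact h2 (Fin.castSucc_lt_last _)
  refine ⟨?_, ?_, ?_⟩
  · intro i
    refine Fin.cases ?_ (fun j => ?_) i
    · simp only [rot, Fin.cons_zero]
      have := h1 (Fin.castSucc (Fin.last s))
      omega
    · simp only [rot, Fin.cons_succ, Fin.init]
      have h4 := h1 (Fin.castSucc j)
      have h5 : ℓ (Fin.castSucc (Fin.last s)) ≤ ℓ (Fin.castSucc j) :=
        h2.antitone (Fin.castSucc_le_castSucc_iff.2 (Fin.le_last j))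
      omega
  · rw [Fin.strictAnti_iff_succ_lt]
    intro i
    refine Fin.cases ?_ (fun j => ?_) i
    · simp only [rot, Fin.cons_succ, Fin.init, Fin.castSucc_zero, Fin.cons_zero]
      have := h1 0
      omega
    · simp only [rot, Fin.cons_succ, Fin.init, Fin.castSucc_succ]
      have : ℓ (Fin.succ (Fin.castSucc j)) < ℓ (Fin.castSucc (Fin.castSucc j)) :=
        h2 (Fin.castSucc_lt_succ)
      omega
  · intro i hi
    have : i = Fin.succ (Fin.last s) := by ext; simpa using hi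
    subst this
    simp [rot, Fin.init]

lemma rot_injOn {s n : ℕ} : Set.InjOn (rot n) (alc (s + 2) n : Set (Fin (s + 2) → ℤ)) := by
  intro ℓ hℓ ℓ' hℓ' h
  rw [mem_coe, mem_alc] at hℓ hℓ'
  have h0 := congrFun h 0
  simp only [rot, Fin.cons_zero] at h0
  funext i
  refine Fin.lastCases ?_ (fun j => ?_) i
  · rw [hℓ.2.2 _ (by simp), hℓ'.2.2 _ (by simp)]
  · have h1 := congrFun h (Fin.succ j)
    simp only [rot, Fin.cons_succ, Fin.init] at h1
    omega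

lemma F_rot {s n : ℕ} (hn : 0 < n) (x y : Fin (s + 2) → ℝ) (ω : ℂ) (hω : ∀ j, E (x j) = ω)
    (hy : ∀ j, E (y j) = 1) (hxy : (∑ j, x j) + ∑ j, y j = 0) {ℓ : Fin (s + 2) → ℤ}
    (h : ℓ ∈ alc (s + 2) n) : F n x y (rot n ℓ) = ω * F n x y ℓ := by
  rw [mem_alc] at h
  have hlast : ℓ (Fin.last (s + 1)) = 0 := h.2.2 _ (by simp)
  have h1 : F n x y (rot n ℓ) = F n x y (Fin.cons (n : ℤ) (Fin.init ℓ) : Fin (s + 2) → ℤ) :=
    F_add_const n x y hxy _ _
  rw [h1, ← F_comp_perm n x y _ (finRotate (s + 2)), ← F_update hn x y ω hω hy ℓ (Fin.last (s + 1))]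
  congr 1
  funext i
  refine Fin.lastCases ?_ (fun j => ?_) i
  · simp [Function.comp, hlast]
  · have hj : finRotate (s + 2) (Fin.castSucc j) = Fin.succ j := by
      ext
      rw [coe_finRotate_of_ne_last (Fin.castSucc_lt_last j).ne]
      simp
    simp only [Function.comp, hj, Fin.cons_succ, Fin.init]
    rw [Function.update_of_ne (Fin.castSucc_lt_last j).ne]

lemma sum_alc_rot {s n : ℕ} (hn : 0 < n) (x y : Fin (s + 2) → ℝ) (ω : ℂ) (hω : ∀ j, E (x j) = ω)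
    (hy : ∀ j, E (y j) = 1) (hxy : (∑ j, x j) + ∑ j, y j = 0) :
    ∑ ℓ ∈ alc (s + 2) n, F n x y ℓ = ω * ∑ ℓ ∈ alc (s + 2) n, F n x y ℓ := by
  classical
  have h1 : (alc (s + 2) n).image (rot n) = alc (s + 2) n := by
    apply Finset.eq_of_subset_of_card_le
    · intro ℓ hℓ
      rw [mem_image] at hℓ
      obtain ⟨m, hm, rfl⟩ := hℓ
      exact rot_mem hm
    · rw [Finset.card_image_of_injOn rot_injOn]
  conv_lhs => rw [← h1]
  rw [Finset.sum_image rot_injOn, Finset.mul_sum]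
  exact Finset.sum_congr rfl fun ℓ hℓ => F_rot hn x y ω hω hy hxy hℓ

lemma sum_alc_eq_zero_of_ne_one {r n : ℕ} (hr : 1 ≤ r) (hn : 0 < n) (x y : Fin r → ℝ) (ω : ℂ)
    (hω : ∀ j, E (x j) = ω) (hω1 : ω ≠ 1)
    (hy : ∀ j, E (y j) = 1) (hxy : (∑ j, x j) + ∑ j, y j = 0) :
    ∑ ℓ ∈ alc r n, F n x y ℓ = 0 := by
  match r, hr with
  | 1, _ =>
    exfalso
    apply hω1
    rw [← hω 0]
    simp only [Fin.sum_univ_one] at hxy
    have : x 0 = -(y 0) := by linarith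
    rw [this, E_neg, hy, inv_one]
  | s + 2, _ =>
    have h := sum_alc_rot hn x y ω hω hy hxy
    have h2 : (1 - ω) * ∑ ℓ ∈ alc (s + 2) n, F n x y ℓ = 0 := by linear_combination h
    rcases mul_eq_zero.1 h2 with h3 | h3
    · exact absurd (sub_eq_zero.1 h3).symm hω1
    · exact h3

lemma B_periodic {r : ℕ} {n : ℕ} (hn : 0 < n) (ℓ m : Fin r → ℤ) (x : Fin r → ℝ)
    (hx : ∀ j, E (x j) = 1) : B n (fun i => ℓ i + n * m i) x = B n ℓ x := by
  have hn' : (n : ℝ) ≠ 0 := by positivity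
  rw [B, B]
  congr 1
  ext i j
  simp only [Matrix.of_apply]
  obtain ⟨a, ha⟩ := E_eq_one_iff.1 (hx j)
  have : ((ℓ i + n * m i : ℤ) : ℝ) * x j / n = ℓ i * x j / n + ((m i * a : ℤ) : ℝ) := by
    rw [ha]; push_cast; field_simp
  rw [this, E_add, E_intCast, mul_one]

lemma sum_last_eq {r n : ℕ} [NeZero n] (G : (Fin r → Fin n) → ℂ)
    (hG : ∀ (c : Fin n) (ℓ : Fin r → Fin n), G (fun i => ℓ i + c) = G ℓ) (i₀ : Fin r) :
    ∑ ℓ, G ℓ = (n : ℂ) * ∑ ℓ ∈ (univ : Finset (Fin r → Fin n)).filter (fun ℓ => ℓ i₀ = 0), G ℓ := by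
  classical
  have h1 : ∀ c : Fin n, ∑ ℓ ∈ (univ : Finset (Fin r → Fin n)).filter (fun ℓ => ℓ i₀ = c), G ℓ =
      ∑ ℓ ∈ (univ : Finset (Fin r → Fin n)).filter (fun ℓ => ℓ i₀ = 0), G ℓ := by
    intro c
    symm
    refine Finset.sum_bij (fun ℓ _ => fun i => ℓ i + c) ?_ ?_ ?_ ?_
    · intro ℓ hℓ
      simp only [mem_filter, mem_univ, true_and] at hℓ ⊢
      rw [hℓ, zero_add]
    · intro ℓ _ ℓ' _ h
      funext i
      exact add_right_cancel (congrFun h i)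
    · intro ℓ hℓ
      simp only [mem_filter, mem_univ, true_and] at hℓ
      refine ⟨fun i => ℓ i - c, ?_, ?_⟩
      · simp [hℓ]
      · funext i; simp
    · intro ℓ _
      exact (hG c ℓ).symm
  have h2 : ∑ ℓ, G ℓ = ∑ c : Fin n,
      ∑ ℓ ∈ (univ : Finset (Fin r → Fin n)).filter (fun ℓ => ℓ i₀ = c), G ℓ := by
    rw [Finset.sum_fiberwise]
  rw [h2]
  simp only [h1]
  rw [Finset.sum_const, Finset.card_univ, Fintype.card_fin, nsmul_eq_mul]

lemma card_mul_sum_last {r n : ℕ} [NeZero n] (G : (Fin r → Fin n) → ℂ)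
    (hsymm : ∀ (σ : Equiv.Perm (Fin r)) (ℓ : Fin r → Fin n), G (ℓ ∘ σ) = G ℓ)
    (hinj : ∀ ℓ, ¬ Function.Injective ℓ → G ℓ = 0) (i₀ : Fin r) (hi₀ : (i₀ : ℕ) = r - 1)
    [DecidablePred (fun v : Fin r → Fin n => StrictAnti v ∧
      ∀ i : Fin r, (i : ℕ) = r - 1 → (v i : ℕ) = 0)] :
    (r : ℂ) * ∑ ℓ ∈ (univ : Finset (Fin r → Fin n)).filter (fun ℓ => ℓ i₀ = 0), G ℓ =
      (r.factorial : ℂ) * ∑ v ∈ (univ : Finset (Fin r → Fin n)).filter
        (fun v : Fin r → Fin n => StrictAnti v ∧ ∀ i : Fin r, (i : ℕ) = r - 1 → (v i : ℕ) = 0), G v := by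
  classical
  have hle : ∀ i : Fin r, i ≤ i₀ := fun i => by
    rw [Fin.le_def, hi₀]; have := i.isLt; omega
  have hi0' : ∀ i : Fin r, (i : ℕ) = r - 1 → i = i₀ := fun i hi => by
    ext; rw [hi, hi₀]
  let G' : (Fin r → Fin n) → ℂ := fun ℓ => ∑ i : Fin r, if ℓ i = 0 then G ℓ else 0
  have hG'symm : ∀ (σ : Equiv.Perm (Fin r)) (ℓ : Fin r → Fin n), G' (ℓ ∘ σ) = G' ℓ := by
    intro σ ℓ
    simp only [G', hsymm, Function.comp]
    exact Equiv.sum_comp σ (fun i => if ℓ i = 0 then G ℓ else 0)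
  have hG'inj : ∀ ℓ, ¬ Function.Injective ℓ → G' ℓ = 0 := by
    intro ℓ hℓ
    simp [G', hinj ℓ hℓ]
  have h1 := sum_all_eq_factorial_mul G' hG'symm hG'inj
  have h2 : ∑ ℓ, G' ℓ =
      (r : ℂ) * ∑ ℓ ∈ (univ : Finset (Fin r → Fin n)).filter (fun ℓ => ℓ i₀ = 0), G ℓ := by
    simp only [G']
    rw [Finset.sum_comm]
    have h3 : ∀ i : Fin r, ∑ ℓ : Fin r → Fin n, (if ℓ i = 0 then G ℓ else 0) =
        ∑ ℓ ∈ (univ : Finset (Fin r → Fin n)).filter (fun ℓ => ℓ i₀ = 0), G ℓ := by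
      intro i
      rw [Finset.sum_filter]
      rw [← Equiv.sum_comp ((Equiv.swap i i₀).arrowCongr (Equiv.refl (Fin n)))]
      refine Finset.sum_congr rfl fun ℓ _ => ?_
      have h4 : ((Equiv.swap i i₀).arrowCongr (Equiv.refl (Fin n))) ℓ =
          ℓ ∘ (Equiv.swap i i₀) := by
        funext j
        simp [Equiv.arrowCongr]
      rw [h4, hsymm]
      simp [Function.comp]
    rw [Finset.sum_congr rfl fun i _ => h3 i, Finset.sum_const, Finset.card_univ, Fintype.card_fin,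
      nsmul_eq_mul]
  have h5 : ∑ ℓ ∈ (univ : Finset (Fin r → Fin n)).filter (fun ℓ => StrictAnti ℓ), G' ℓ =
      ∑ v ∈ (univ : Finset (Fin r → Fin n)).filter
        (fun v : Fin r → Fin n => StrictAnti v ∧ ∀ i : Fin r, (i : ℕ) = r - 1 → (v i : ℕ) = 0), G v := by
    rw [Finset.sum_filter, Finset.sum_filter]
    refine Finset.sum_congr rfl fun ℓ _ => ?_
    by_cases hs : StrictAnti ℓ
    · rw [if_pos hs]
      have h6 : G' ℓ = if ℓ i₀ = 0 then G ℓ else 0 := by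
        simp only [G']
        rw [Finset.sum_eq_single i₀]
        · intro i _ hi
          rw [if_neg]
          intro h0
          have hlt : ℓ i₀ < ℓ i := hs (lt_of_le_of_ne (hle i) hi)
          rw [h0] at hlt
          exact absurd hlt (by simp)
        · simp
      rw [h6]
      by_cases h0 : ℓ i₀ = 0
      · rw [if_pos h0, if_pos]
        exact ⟨hs, fun i hi => by rw [hi0' i hi, h0]; simp⟩
      · rw [if_neg h0, if_neg]
        rintro ⟨_, h⟩
        exact h0 (by ext; simpa using h i₀ hi₀)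
    · rw [if_neg hs, if_neg (fun h => hs h.1)]
  rw [← h2, h1, h5]

/-- The alcove sum, in the case where all exponents are integers. -/
lemma sum_alc_of_one {r n : ℕ} (hr : 1 ≤ r) (hn : 0 < n) (x y : Fin r → ℝ)
    (hx : ∀ j, E (x j) = 1)
    (hy : ∀ j, E (y j) = 1) (hxy : (∑ j, x j) + ∑ j, y j = 0) :
    (n : ℂ) * ∑ ℓ ∈ alc r n, F n x y ℓ =
      (r : ℂ) * (Matrix.of fun j j' : Fin r => ∑ l : Fin n, E ((l : ℕ) * (x j + y j') / n)).det := by
  classical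
  have : NeZero n := ⟨hn.ne'⟩
  let i₀ : Fin r := ⟨r - 1, by omega⟩
  let G : (Fin r → Fin n) → ℂ := fun ℓ => F n x y (fun i => ((ℓ i : ℕ) : ℤ))
  have hsymm : ∀ (σ : Equiv.Perm (Fin r)) (ℓ : Fin r → Fin n), G (ℓ ∘ σ) = G ℓ := by
    intro σ ℓ
    exact F_comp_perm n x y (fun i => ((ℓ i : ℕ) : ℤ)) σ
  have hinj : ∀ ℓ, ¬ Function.Injective ℓ → G ℓ = 0 := by
    intro ℓ hℓ
    show B n _ x * B n _ y = 0
    rw [B_eq_zero n _ x, zero_mul]
    intro h
    apply hℓ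
    intro a b hab
    exact h (by simp [hab])
  have htr : ∀ (c : Fin n) (ℓ : Fin r → Fin n), G (fun i => ℓ i + c) = G ℓ := by
    intro c ℓ
    have h1 : ∀ i, ∃ m : ℤ, (((ℓ i + c : Fin n) : ℕ) : ℤ) = (ℓ i : ℕ) + (c : ℕ) + n * m := by
      intro i
      rw [Fin.val_add]
      refine ⟨-(((ℓ i : ℕ) + (c : ℕ)) / n : ℕ), ?_⟩
      have := Nat.mod_add_div ((ℓ i : ℕ) + (c : ℕ)) n
      have h2 : (((((ℓ i : ℕ) + (c : ℕ)) % n : ℕ) : ℤ)) +
        (n : ℤ) * ((((ℓ i : ℕ) + (c : ℕ)) / n : ℕ) : ℤ) = (ℓ i : ℕ) + (c : ℕ) := by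
        exact_mod_cast this
      linear_combination h2
    choose m hm using h1
    show F n x y (fun i => (((ℓ i + c : Fin n) : ℕ) : ℤ)) = F n x y (fun i => ((ℓ i : ℕ) : ℤ))
    have h3 : (fun i => (((ℓ i + c : Fin n) : ℕ) : ℤ)) =
        fun i => ((ℓ i : ℕ) + ((c : ℕ) : ℤ)) + n * m i := funext hm
    rw [h3, ← F_add_const n x y hxy (fun i => ((ℓ i : ℕ) : ℤ)) ((c : ℕ) : ℤ)]
    rw [F, F, B_periodic hn _ m x hx, B_periodic hn _ m y hy]
  have hA := sum_last_eq G htr i₀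
  have hB := card_mul_sum_last G hsymm hinj i₀ rfl
  have hC : ∑ ℓ, G ℓ = (r.factorial : ℂ) *
      (Matrix.of fun j j' : Fin r => ∑ l : Fin n, E ((l : ℕ) * (x j + y j') / n)).det := by
    have h := sum_det_mul_det (fun (l : Fin n) (j : Fin r) => E ((l : ℕ) * x j / n))
      (fun (l : Fin n) (j : Fin r) => E ((l : ℕ) * y j / n))
    have h2 : ∀ l : Fin n, ∀ j j' : Fin r, E ((l : ℕ) * (x j + y j') / n) =
        E ((l : ℕ) * x j / n) * E ((l : ℕ) * y j' / n) := by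
      intro l j j'
      rw [← E_add]; congr 1; ring
    simp only [h2]
    rw [← h]
    refine Finset.sum_congr rfl fun ℓ _ => ?_
    simp only [G, F, B]
    push_cast
    rfl
  have hD := sum_alc_eq (r := r) (n := n) (F n x y)
  rw [← hD]
  have hf : (r.factorial : ℂ) ≠ 0 := by exact_mod_cast r.factorial_ne_zero
  apply mul_left_cancel₀ hf
  calc _ = (n : ℂ) * ((r.factorial : ℂ) * ∑ v ∈ (univ : Finset (Fin r → Fin n)).filter
        (fun v : Fin r → Fin n => StrictAnti v ∧ ∀ i : Fin r, (i : ℕ) = r - 1 → (v i : ℕ) = 0), G v) := by ring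
    _ = (n : ℂ) * ((r : ℂ) *
        ∑ ℓ ∈ (univ : Finset (Fin r → Fin n)).filter (fun ℓ => ℓ i₀ = 0), G ℓ) := by rw [hB]
    _ = (r : ℂ) * ∑ ℓ, G ℓ := by rw [hA]; ring
    _ = _ := by rw [hC]; ring

end K289.Verlinde
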