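import Groth.Agent.VerlindeComb.K289.Sym
import Mathlib.Analysis.SpecialFunctions.Trigonometric.Basic
import Mathlib.Analysis.SpecialFunctions.Complex.Log
import Mathlib.Analysis.SpecialFunctions.Trigonometric.Complex
import Mathlib.Algebra.Field.GeomSum
import Mathlib.LinearAlgebra.Matrix.Determinant.Misc
import Mathlib.Algebra.BigOperators.Field

set_option autoImplicit false

namespace K289.Verlinde

open Finset

/-- The exponential `e(x) = exp(2πi x)`. -/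
noncomputable def E (x : ℝ) : ℂ := Complex.exp (2 * Real.pi * Complex.I * (x : ℂ))

lemma E_add (x y : ℝ) : E (x + y) = E x * E y := by
  rw [E, E, E, ← Complex.exp_add]; congr 1; push_cast; ring

@[simp] lemma E_zero : E 0 = 1 := by simp [E]

lemma E_ne_zero (x : ℝ) : E x ≠ 0 := Complex.exp_ne_zero _

lemma E_neg (x : ℝ) : E (-x) = (E x)⁻¹ := by
  refine eq_inv_of_mul_eq_one_left ?_
  rw [← E_add]; simp

lemma E_eq_one_iff {x : ℝ} : E x = 1 ↔ ∃ m : ℤ, x = m := by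
  rw [E, Complex.exp_eq_one_iff]
  have h : (2 * Real.pi * Complex.I : ℂ) ≠ 0 := Complex.two_pi_I_ne_zero
  constructor
  · rintro ⟨m, hm⟩
    refine ⟨m, ?_⟩
    have : (x : ℂ) = (m : ℂ) := by
      apply mul_left_cancel₀ h
      rw [hm]; ring
    exact_mod_cast this
  · rintro ⟨m, rfl⟩
    exact ⟨m, by push_cast; ring⟩

@[simp] lemma E_intCast (m : ℤ) : E (m : ℝ) = 1 := E_eq_one_iff.2 ⟨m, rfl⟩

lemma conj_E (x : ℝ) : (starRingEnd ℂ) (E x) = E (-x) := by
  rw [E, ← Complex.exp_conj, E]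
  congr 1
  simp [Complex.conj_ofNat]

lemma E_pow (x : ℝ) (m : ℕ) : E x ^ m = E (m * x) := by
  rw [E, E, ← Complex.exp_nat_mul]; congr 1; push_cast; ring

lemma E_sum {ι : Type*} (s : Finset ι) (f : ι → ℝ) : E (∑ i ∈ s, f i) = ∏ i ∈ s, E (f i) := by
  classical
  induction s using Finset.induction_on with
  | empty => simp
  | insert a s ha ih => rw [Finset.sum_insert ha, Finset.prod_insert ha, E_add, ih]

/-- Orthogonality for a cyclic group. -/
lemma sum_E {n : ℕ} (hn : 0 < n) (θ : ℤ) :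
    ∑ l : Fin n, E ((l : ℕ) * θ / n) = if (n : ℤ) ∣ θ then (n : ℂ) else 0 := by
  have hn' : (n : ℝ) ≠ 0 := by positivity
  have h1 : ∀ l : Fin n, E ((l : ℕ) * θ / n) = E (θ / n) ^ (l : ℕ) := by
    intro l; rw [E_pow]; congr 1; ring
  simp only [h1]
  rw [Fin.sum_univ_eq_sum_range (fun l => E (θ / n) ^ l) n]
  split_ifs with h
  · obtain ⟨m, rfl⟩ := h
    have : E (((n : ℤ) * m : ℤ) / n) = 1 := by
      rw [E_eq_one_iff]; refine ⟨m, ?_⟩; push_cast; field_simp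
    rw [this]; simp
  · have hne : E ((θ : ℝ) / n) ≠ 1 := by
      intro h'
      rw [E_eq_one_iff] at h'
      obtain ⟨m, hm⟩ := h'
      apply h
      refine ⟨m, ?_⟩
      rw [div_eq_iff hn'] at hm
      have : (θ : ℝ) = ((n : ℤ) * m : ℤ) := by rw [hm]; push_cast; ring
      exact_mod_cast this
    have h2 := geom_sum_mul (E ((θ : ℝ) / n)) n
    have h3 : E ((θ : ℝ) / n) ^ n = 1 := by
      rw [E_pow, E_eq_one_iff]; exact ⟨θ, by field_simp⟩
    rw [h3, sub_self] at h2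
    rcases mul_eq_zero.1 h2 with h4 | h4
    · exact h4
    · exact absurd (sub_eq_zero.1 h4) hne

/-- The alternant `det (e(ℓ_i x_j / n))`. -/
noncomputable def B {r : ℕ} (n : ℕ) (ℓ : Fin r → ℤ) (x : Fin r → ℝ) : ℂ :=
  (Matrix.of fun i j : Fin r => E (ℓ i * x j / n)).det

lemma B_comp_perm {r : ℕ} (n : ℕ) (ℓ : Fin r → ℤ) (x : Fin r → ℝ) (σ : Equiv.Perm (Fin r)) :
    B n (ℓ ∘ σ) x = ((Equiv.Perm.sign σ : ℤ) : ℂ) * B n ℓ x :=
  Matrix.det_permute σ (Matrix.of fun i j : Fin r => E (ℓ i * x j / n))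

lemma B_add_const {r : ℕ} (n : ℕ) (ℓ : Fin r → ℤ) (x : Fin r → ℝ) (c : ℤ) :
    B n (fun i => ℓ i + c) x = E (c * (∑ j, x j) / n) * B n ℓ x := by
  rw [B, B]
  have h := Matrix.det_mul_row (fun j : Fin r => E (c * x j / n))
    (Matrix.of fun i j : Fin r => E (ℓ i * x j / n))
  have h1 : ∏ j : Fin r, E (c * x j / n) = E (c * (∑ j, x j) / n) := by
    rw [← E_sum]; congr 1; rw [Finset.mul_sum, Finset.sum_div]
  rw [h1] at h
  rw [← h]
  congr 1
  ext i j
  simp only [Matrix.of_apply]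
  rw [← E_add]; congr 1; push_cast; ring

lemma B_add_const_var {r : ℕ} (n : ℕ) (ℓ : Fin r → ℤ) (x : Fin r → ℝ) (a : ℝ) :
    B n ℓ (fun j => x j + a) = E ((∑ i, (ℓ i : ℝ)) * a / n) * B n ℓ x := by
  rw [B, B]
  have h := Matrix.det_mul_column (fun i : Fin r => E (ℓ i * a / n))
    (Matrix.of fun i j : Fin r => E (ℓ i * x j / n))
  have h1 : ∏ i : Fin r, E (ℓ i * a / n) = E ((∑ i, (ℓ i : ℝ)) * a / n) := by
    rw [← E_sum]; congr 1; rw [Finset.sum_mul, Finset.sum_div]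
  rw [h1] at h
  rw [← h]
  congr 1
  ext i j
  simp only [Matrix.of_apply]
  rw [← E_add]; congr 1; ring

lemma B_update {r : ℕ} {n : ℕ} (hn : 0 < n) (ℓ : Fin r → ℤ) (x : Fin r → ℝ) (ω : ℂ)
    (hω : ∀ j, E (x j) = ω) (i₀ : Fin r) :
    B n (Function.update ℓ i₀ (ℓ i₀ + n)) x = ω * B n ℓ x := by
  classical
  have hn' : (n : ℝ) ≠ 0 := by positivity
  rw [B, B]
  set M : Matrix (Fin r) (Fin r) ℂ := Matrix.of fun i j : Fin r => E (ℓ i * x j / n) with hM
  have h1 : (Matrix.of fun i j : Fin r => E ((Function.update ℓ i₀ (ℓ i₀ + n) i : ℤ) * x j / n)) =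
      M.updateRow i₀ (ω • M i₀) := by
    ext i j
    by_cases hi : i = i₀
    · subst hi
      simp only [Matrix.of_apply, Function.update_self, Matrix.updateRow_self, Pi.smul_apply,
        smul_eq_mul, hM]
      rw [← hω j, ← E_add]; congr 1; push_cast; field_simp; ring
    · simp only [Matrix.of_apply, Function.update_of_ne hi, Matrix.updateRow_ne hi, hM]
  rw [h1, Matrix.det_updateRow_smul, Matrix.updateRow_eq_self]

lemma B_eq_zero {r : ℕ} (n : ℕ) (ℓ : Fin r → ℤ) (x : Fin r → ℝ) (h : ¬ Function.Injective ℓ) :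
    B n ℓ x = 0 := by
  rw [Function.Injective] at h
  push Not at h
  obtain ⟨i, j, hij, hne⟩ := h
  exact Matrix.det_zero_of_row_eq hne (by funext k; simp [hij])

/-- The product of two alternants whose exponents sum to zero. -/
noncomputable def F {r : ℕ} (n : ℕ) (x y : Fin r → ℝ) (ℓ : Fin r → ℤ) : ℂ := B n ℓ x * B n ℓ y

lemma F_comp_perm {r : ℕ} (n : ℕ) (x y : Fin r → ℝ) (ℓ : Fin r → ℤ) (σ : Equiv.Perm (Fin r)) :
    F n x y (ℓ ∘ σ) = F n x y ℓ := by
  rw [F, F, B_comp_perm, B_comp_perm]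
  have hs : ((Equiv.Perm.sign σ : ℤ) : ℂ) * ((Equiv.Perm.sign σ : ℤ) : ℂ) = 1 := by
    rw [← Int.cast_mul, ← Units.val_mul, Int.units_mul_self]; simp
  linear_combination B n ℓ x * B n ℓ y * hs

lemma F_add_const {r : ℕ} (n : ℕ) (x y : Fin r → ℝ) (hxy : (∑ j, x j) + ∑ j, y j = 0)
    (ℓ : Fin r → ℤ) (c : ℤ) : F n x y (fun i => ℓ i + c) = F n x y ℓ := by
  rw [F, F, B_add_const, B_add_const]
  have : E (c * (∑ j, x j) / n) * E (c * (∑ j, y j) / n) = 1 := by
    rw [← E_add, ← add_div, ← mul_add, hxy]; simp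
  linear_combination B n ℓ x * B n ℓ y * this

lemma F_update {r : ℕ} {n : ℕ} (hn : 0 < n) (x y : Fin r → ℝ) (ω : ℂ) (hω : ∀ j, E (x j) = ω)
    (hy : ∀ j, E (y j) = 1) (ℓ : Fin r → ℤ) (i₀ : Fin r) :
    F n x y (Function.update ℓ i₀ (ℓ i₀ + n)) = ω * F n x y ℓ := by
  rw [F, F, B_update hn ℓ x ω hω, B_update hn ℓ y 1 hy]
  ring

end K289.Verlinde
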