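import Groth.Agent.VerlindeComb.K289.Alcove

set_option autoImplicit false

namespace K289.Verlinde

open Finset

lemma det_C_eq_zero {r n : ℕ} (hn : 0 < n) (v v' : Fin r → ℤ) (hv : StrictAnti v)
    (hv' : StrictAnti v') (hvb : ∀ i, 0 ≤ v i ∧ v i < n) (hvb' : ∀ i, 0 ≤ v' i ∧ v' i < n)
    (a : ℤ) (ha : ∑ i, v i - ∑ i, v' i = r * a) (hne : ¬ ∃ a : ℤ, ∀ i, v i - v' i = a) :
    (Matrix.of fun j j' : Fin r =>
      if (n : ℤ) ∣ (v j - a - v' j') then (n : ℂ) else 0).det = 0 := by
  classical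
  rw [Matrix.det_apply']
  apply Finset.sum_eq_zero
  intro σ _
  rw [mul_eq_zero]
  right
  by_contra hprod
  rw [← ne_eq, Finset.prod_ne_zero_iff] at hprod
  have h1 : ∀ i, (n : ℤ) ∣ (v (σ i) - a - v' i) := by
    intro i
    by_contra h
    exact hprod i (mem_univ i) (by simp [h])
  choose m hm using h1
  have hsum : ∑ i, m i = 0 := by
    have h2 : ∑ i, (v (σ i) - a - v' i) = ∑ i, (n : ℤ) * m i := Finset.sum_congr rfl fun i _ => hm i
    rw [Finset.sum_sub_distrib, Finset.sum_sub_distrib, Equiv.sum_comp σ v, ← Finset.mul_sum,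
      Finset.sum_const, Finset.card_univ, Fintype.card_fin, nsmul_eq_mul] at h2
    have h3 : (n : ℤ) * ∑ i, m i = 0 := by rw [← h2]; linarith
    rcases mul_eq_zero.1 h3 with h4 | h4
    · omega
    · exact h4
  have hm0 : ∀ i, m i = 0 := by
    rcases le_total 0 a with h0 | h0
    · have h5 : ∀ i, 0 ≤ - m i := by
        intro i
        by_contra hneg
        have : 1 ≤ m i := by omega
        have h6 := hm i
        have h7 := hvb (σ i)
        have h8 := hvb' i
        nlinarith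
      have h6 : ∑ i, - m i = 0 := by rw [Finset.sum_neg_distrib, hsum, neg_zero]
      intro i
      have := (Finset.sum_eq_zero_iff_of_nonneg (fun i _ => h5 i)).1 h6 i (mem_univ i)
      omega
    · have h5 : ∀ i, 0 ≤ m i := by
        intro i
        by_contra hneg
        have : m i ≤ -1 := by omega
        have h6 := hm i
        have h7 := hvb (σ i)
        have h8 := hvb' i
        nlinarith
      intro i
      exact (Finset.sum_eq_zero_iff_of_nonneg (fun i _ => h5 i)).1 hsum i (mem_univ i)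
  have h3 : ∀ i, v (σ i) = v' i + a := by
    intro i; have := hm i; rw [hm0 i] at this; linarith
  have hσ : StrictMono σ := by
    intro i j hij
    have h4 : v (σ j) < v (σ i) := by rw [h3, h3]; have := hv' hij; linarith
    exact hv.lt_iff_gt.1 h4
  have hid : ∀ i, σ i = i := by
    intro i
    have h5 : StrictMono (id : Fin r → Fin r) := strictMono_id
    have h6 := (hσ.range_inj h5).1 (by rw [σ.surjective.range_eq]; simp)
    exact congrFun h6 i
  apply hne
  refine ⟨a, fun i => ?_⟩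
  have := h3 i
  rw [hid i] at this
  linarith

lemma F_shift {r n : ℕ} (ℓ v v' : Fin r → ℤ) (t : ℝ) :
    F n (fun j => v j + t) (fun j => -(v' j : ℝ)) ℓ =
      E ((∑ i, (ℓ i : ℝ)) * t / n) * B n ℓ (fun j => v j) * B n ℓ (fun j => -(v' j : ℝ)) := by
  rw [F, B_add_const_var]

lemma E_intCast' (m : ℤ) : E (m : ℝ) = 1 := E_intCast m

lemma core_zero {r n : ℕ} (hr : 1 ≤ r) (hn : 0 < n) (v v' : Fin r → ℤ) (hv : StrictAnti v)
    (hv' : StrictAnti v') (hvb : ∀ i, 0 ≤ v i ∧ v i < n) (hvb' : ∀ i, 0 ≤ v' i ∧ v' i < n)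
    (hne : ¬ ∃ a : ℤ, ∀ i, v i - v' i = a) :
    ∑ ℓ ∈ alc r n, E ((∑ i, (ℓ i : ℝ)) * (-((∑ i, (v i : ℝ)) - ∑ i, (v' i : ℝ)) / r) / n) *
      B n ℓ (fun j => v j) * B n ℓ (fun j => -(v' j : ℝ)) = 0 := by
  have hr' : (r : ℝ) ≠ 0 := by positivity
  set t : ℝ := -((∑ i, (v i : ℝ)) - ∑ i, (v' i : ℝ)) / r with ht
  have h0 : ∀ ℓ, E ((∑ i, (ℓ i : ℝ)) * t / n) *
      B n ℓ (fun j => v j) * B n ℓ (fun j => -(v' j : ℝ)) =
      F n (fun j => v j + t) (fun j => -(v' j : ℝ)) ℓ := fun ℓ => (F_shift ℓ v v' t).symm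
  simp only [h0]
  have hx : ∀ j, E ((v j : ℝ) + t) = E t := by
    intro j; rw [E_add, E_intCast, one_mul]
  have hy : ∀ j, E (-(v' j : ℝ)) = 1 := by
    intro j; rw [E_neg, E_intCast, inv_one]
  have hxy : (∑ j, ((v j : ℝ) + t)) + ∑ j, -(v' j : ℝ) = 0 := by
    rw [Finset.sum_add_distrib, Finset.sum_neg_distrib, Finset.sum_const, Finset.card_univ,
      Fintype.card_fin, nsmul_eq_mul, ht]
    field_simp
    ring
  by_cases hω : E t = 1
  · obtain ⟨b, hb⟩ := E_eq_one_iff.1 hω
    have h1 := sum_alc_of_one hr hn (fun j => (v j : ℝ) + t) (fun j => -(v' j : ℝ))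
      (fun j => by rw [hx, hω]) hy hxy
    have ha : ∑ i, v i - ∑ i, v' i = r * (-b) := by
      have : (∑ i, (v i : ℝ)) - ∑ i, (v' i : ℝ) = r * (-b) := by
        rw [← hb, ht]; field_simp
      exact_mod_cast this
    have h2 := det_C_eq_zero hn v v' hv hv' hvb hvb' (-b) ha hne
    have h3 : (Matrix.of fun j j' : Fin r => ∑ l : Fin n,
        E ((l : ℕ) * ((v j : ℝ) + t + -(v' j' : ℝ)) / n)) = (Matrix.of fun j j' : Fin r =>
      if (n : ℤ) ∣ (v j - (-b) - v' j') then (n : ℂ) else 0) := by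
      ext j j'
      simp only [Matrix.of_apply]
      rw [← sum_E hn]
      refine Finset.sum_congr rfl fun l _ => ?_
      congr 3
      rw [hb]; push_cast; ring
    rw [h3, h2, mul_zero] at h1
    rcases mul_eq_zero.1 h1 with h4 | h4
    · exfalso
      have : (n : ℂ) ≠ 0 := by exact_mod_cast hn.ne'
      exact this h4
    · exact h4
  · exact sum_alc_eq_zero_of_ne_one hr hn _ _ (E t) hx hω hy hxy

lemma core_eq {r n : ℕ} (hr : 1 ≤ r) (hn : 0 < n) (v : Fin r → ℤ) (hv : StrictAnti v)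
    (hvb : ∀ i, 0 ≤ v i ∧ v i < n) :
    ∑ ℓ ∈ alc r n, B n ℓ (fun j => v j) * B n ℓ (fun j => -(v j : ℝ)) = r * (n : ℂ) ^ (r - 1) := by
  have h1 := sum_alc_of_one hr hn (fun j => (v j : ℝ)) (fun j => -(v j : ℝ))
      (fun j => E_intCast _) (fun j => by rw [E_neg, E_intCast, inv_one])
      (by rw [Finset.sum_neg_distrib, add_neg_cancel])
  have h3 : (Matrix.of fun j j' : Fin r => ∑ l : Fin n,
        E ((l : ℕ) * ((v j : ℝ) + -(v j' : ℝ)) / n)) = (n : ℂ) • (1 : Matrix (Fin r) (Fin r) ℂ) := by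
      ext j j'
      simp only [Matrix.of_apply, Matrix.smul_apply, Matrix.one_apply, smul_eq_mul]
      have h4 : ∀ l : Fin n, E ((l : ℕ) * ((v j : ℝ) + -(v j' : ℝ)) / n) =
        E ((l : ℕ) * ((v j - v j' : ℤ) : ℝ) / n) := by
        intro l; congr 3; push_cast; ring
      simp only [h4]
      rw [sum_E hn]
      by_cases hjj : j = j'
      · subst hjj; simp
      · rw [if_neg, if_neg hjj, mul_zero]
        rintro ⟨m, hm⟩
        have h5 := hvb j
        have h6 := hvb j'
        have h7 : m = 0 := by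
          have : m < 1 := by nlinarith
          have : -1 < m := by nlinarith
          omega
        rw [h7, mul_zero] at hm
        exact hjj (hv.injective (by linarith))
  rw [h3, Matrix.det_smul, Matrix.det_one, mul_one, Fintype.card_fin] at h1
  have hn' : (n : ℂ) ≠ 0 := by exact_mod_cast hn.ne'
  apply mul_left_cancel₀ hn'
  have h5 : (n : ℂ) ^ r = n * n ^ (r - 1) := by
    rw [← pow_succ']; congr 1; omega
  calc _ = _ := h1
    _ = _ := by rw [h5]; ring

end K289.Verlinde
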