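import Groth.Agent.VerlindeComb.K289.CoreSum
import Mathlib.LinearAlgebra.Vandermonde
import Mathlib.LinearAlgebra.Matrix.SchurComplement

set_option autoImplicit false

namespace K289.Verlinde

open Finset

/-- The staircase `r - 1 - i`. -/
def dl (r : ℕ) : Fin r → ℤ := fun i => ((r - 1 - (i : ℕ) : ℕ) : ℤ)

lemma exp_pow_eq (r k v m : ℕ) :
    Complex.exp (2 * Real.pi * Complex.I * (v : ℂ) / ((r : ℂ) + k)) ^ m =
      E (((m : ℤ) : ℝ) * (((v : ℤ) : ℝ)) / ((r + k : ℕ) : ℝ)) := by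
  rw [E, ← Complex.exp_nat_mul]; congr 1; push_cast; ring

lemma det_eq_B {r k : ℕ} (v : Fin r → ℕ) (z : Fin r → ℂ)
    (hz : ∀ j, z j = Complex.exp (2 * Real.pi * Complex.I * (v j : ℂ) / ((r : ℂ) + k)))
    (m : Fin r → ℕ) :
    (Matrix.of fun i j : Fin r => z j ^ (m i)).det =
      B (r + k) (fun i => ((m i : ℕ) : ℤ)) (fun j => (((v j : ℕ) : ℤ) : ℝ)) := by
  rw [B]
  congr 1
  ext i j
  simp only [Matrix.of_apply]
  rw [hz, exp_pow_eq]

lemma B_transpose {r : ℕ} (n : ℕ) (ℓ v : Fin r → ℤ) :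
    B n ℓ (fun j => (v j : ℝ)) = B n v (fun j => (ℓ j : ℝ)) := by
  rw [B, B, ← Matrix.det_transpose]
  congr 1
  ext i j
  simp only [Matrix.transpose_apply, Matrix.of_apply]
  congr 2; ring

lemma B_transpose_neg {r : ℕ} (n : ℕ) (ℓ v : Fin r → ℤ) :
    B n ℓ (fun j => -(v j : ℝ)) = B n v (fun j => -(ℓ j : ℝ)) := by
  rw [B, B, ← Matrix.det_transpose]
  congr 1
  ext i j
  simp only [Matrix.transpose_apply, Matrix.of_apply]
  congr 2; ring

lemma B_neg {r : ℕ} (n : ℕ) (ℓ : Fin r → ℤ) (x : Fin r → ℝ) :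
    B n (fun i => - ℓ i) x = B n ℓ (fun j => - x j) := by
  rw [B, B]
  congr 1
  ext i j
  simp only [Matrix.of_apply]
  congr 2; push_cast; ring

lemma B_dual {r : ℕ} (n : ℕ) (ℓ ℓ' : Fin r → ℤ) (c : ℤ) (h : ∀ i, ℓ' i = c - ℓ (Fin.rev i))
    (x : Fin r → ℝ) : B n ℓ' x = ((Equiv.Perm.sign (Fin.revPerm : Equiv.Perm (Fin r)) : ℤ) : ℂ) *
      E (c * (∑ j, x j) / n) * B n ℓ (fun j => - x j) := by
  have h1 : ℓ' = (fun i => - ℓ i + c) ∘ (Fin.revPerm : Equiv.Perm (Fin r)) := by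
    funext i; rw [h i]; simp [Function.comp]; ring
  rw [h1, B_comp_perm, B_add_const, B_neg]
  ring

lemma sign_ne_zero {r : ℕ} (σ : Equiv.Perm (Fin r)) : ((Equiv.Perm.sign σ : ℤ) : ℂ) ≠ 0 := by
  have : ((Equiv.Perm.sign σ : ℤ) : ℂ) * ((Equiv.Perm.sign σ : ℤ) : ℂ) = 1 := by
    rw [← Int.cast_mul, ← Units.val_mul, Int.units_mul_self]; simp
  intro h
  rw [h, zero_mul] at this
  exact zero_ne_one this

/-- The duality for Schur values. -/
lemma schur_dual {r k : ℕ} (n : ℕ) (hn : n = r + k) (hn0 : 0 < n) (ℓ ℓ' : Fin r → ℤ)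
    (h : ∀ i, ℓ' i = ((n : ℤ) - 1) - ℓ (Fin.rev i)) (x : Fin r → ℝ) :
    B n ℓ' x / B n (dl r) x = E (k * (∑ j, x j) / n) * (B n ℓ (fun j => - x j) /
      B n (dl r) (fun j => - x j)) := by
  have h1 := B_dual n ℓ ℓ' ((n : ℤ) - 1) h x
  have h2 := B_dual n (dl r) (dl r) ((r : ℤ) - 1) (by
    intro i
    simp only [dl, Fin.val_rev]
    have := i.isLt
    omega) x
  rw [h1]
  conv_lhs => rw [h2]
  have hs := sign_ne_zero (Fin.revPerm : Equiv.Perm (Fin r))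
  have hE : E (((n : ℤ) - 1 : ℤ) * (∑ j, x j) / n) = E (k * (∑ j, x j) / n) *
      E (((r : ℤ) - 1 : ℤ) * (∑ j, x j) / n) := by
    rw [← E_add]; congr 1; subst hn; push_cast; ring
  rw [hE]
  have hE0 := E_ne_zero (((r : ℤ) - 1 : ℤ) * (∑ j, x j) / n)
  rw [mul_div_assoc']
  rw [show ((Equiv.Perm.sign (Fin.revPerm : Equiv.Perm (Fin r)) : ℤ) : ℂ) *
      (E (k * (∑ j, x j) / n) * E (((r : ℤ) - 1 : ℤ) * (∑ j, x j) / n)) *
      B n ℓ (fun j => - x j) =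
      (((Equiv.Perm.sign (Fin.revPerm : Equiv.Perm (Fin r)) : ℤ) : ℂ) *
        E (((r : ℤ) - 1 : ℤ) * (∑ j, x j) / n)) *
      (E (k * (∑ j, x j) / n) * B n ℓ (fun j => - x j)) by ring]
  rw [mul_div_mul_left _ _ (mul_ne_zero hs hE0)]

lemma pair_eq (a b : ℝ) : (E a - E b) * (E (-a) - E (-b)) =
    (((2 * Real.sin (Real.pi * (a - b))) ^ 2 : ℝ) : ℂ) := by
  have h1 : ∀ x y : ℝ, E (x + y) = E x * E y := E_add
  set u := E ((a - b) / 2) with hu
  set w := E (-((a - b) / 2)) with hw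
  have huw : u * w = 1 := by rw [hu, hw, ← E_add]; simp
  have huu : u * u = E (a - b) := by rw [hu, ← E_add]; congr 1; ring
  have hww : w * w = E (b - a) := by rw [hw, ← E_add]; congr 1; ring
  have hsin : ((2 * Real.sin (Real.pi * (a - b)) : ℝ) : ℂ) = (w - u) * Complex.I := by
    push_cast
    rw [Complex.sin, hu, hw, E, E]
    push_cast
    have e1 : -(↑Real.pi * ((a : ℂ) - b)) * Complex.I =
      2 * ↑Real.pi * Complex.I * -((↑a - ↑b) / 2) := by ring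
    have e2 : (↑Real.pi * ((a : ℂ) - b)) * Complex.I =
      2 * ↑Real.pi * Complex.I * ((↑a - ↑b) / 2) := by ring
    rw [e1, e2]
    ring
  have e3 : E a * E (-a) = 1 := by rw [← E_add]; simp
  have e4 : E b * E (-b) = 1 := by rw [← E_add]; simp
  have e5 : E a * E (-b) = E (a - b) := by rw [← E_add]; congr 1
  have e6 : E b * E (-a) = E (b - a) := by rw [← E_add]; congr 1
  rw [Complex.ofReal_pow, hsin, mul_pow, Complex.I_sq]
  linear_combination e3 + e4 - e5 - e6 - 2 * huw + huu + hww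

lemma B_dl {r : ℕ} (n : ℕ) (x : Fin r → ℝ) :
    B n (dl r) x = ((Equiv.Perm.sign (Fin.revPerm : Equiv.Perm (Fin r)) : ℤ) : ℂ) *
      ∏ i : Fin r, ∏ j ∈ Finset.Ioi i, (E (x j / n) - E (x i / n)) := by
  rw [← Matrix.det_vandermonde]
  have h1 : dl r = (fun i : Fin r => ((i : ℕ) : ℤ)) ∘ (Fin.revPerm : Equiv.Perm (Fin r)) := by
    funext i
    simp only [dl, Function.comp, Fin.revPerm_apply, Fin.val_rev]
    congr 1; omega
  rw [h1, B_comp_perm, B, ← Matrix.det_transpose]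
  congr 2
  ext i j
  simp only [Matrix.transpose_apply, Matrix.of_apply, Matrix.vandermonde_apply]
  rw [E_pow]
  congr 1; push_cast; ring

lemma prod_pairs {r : ℕ} (f : Fin r → Fin r → ℂ) :
    ∏ p ∈ (Finset.univ : Finset (Fin r × Fin r)).filter (fun p => p.1 < p.2), f p.1 p.2 =
      ∏ i : Fin r, ∏ j ∈ Finset.Ioi i, f i j := by
  classical
  rw [Finset.prod_filter, Fintype.prod_prod_type]
  refine Finset.prod_congr rfl fun i _ => ?_
  rw [← Finset.prod_filter]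
  refine Finset.prod_congr ?_ fun _ _ => rfl
  ext j; simp

/-- `P(v) = |Δ(v)|²`. -/
lemma prod_sin_eq {r : ℕ} (n : ℕ) (x : Fin r → ℝ) :
    ∏ p ∈ (Finset.univ : Finset (Fin r × Fin r)).filter (fun p => p.1 < p.2),
      ((((2 : ℝ) * Real.sin (Real.pi * (x p.1 - x p.2) / n)) ^ 2 : ℝ) : ℂ) =
      B n (dl r) x * B n (dl r) (fun j => - x j) := by
  have h0 := prod_pairs (fun i j : Fin r =>
    ((((2 : ℝ) * Real.sin (Real.pi * (x i - x j) / n)) ^ 2 : ℝ) : ℂ))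
  rw [h0, B_dl, B_dl]
  have hs : ((Equiv.Perm.sign (Fin.revPerm : Equiv.Perm (Fin r)) : ℤ) : ℂ) *
      ((Equiv.Perm.sign (Fin.revPerm : Equiv.Perm (Fin r)) : ℤ) : ℂ) = 1 := by
    rw [← Int.cast_mul, ← Units.val_mul, Int.units_mul_self]; simp
  have h2 : (∏ i : Fin r, ∏ j ∈ Finset.Ioi i,
      ((((2 : ℝ) * Real.sin (Real.pi * (x i - x j) / n)) ^ 2 : ℝ) : ℂ)) =
      (∏ i : Fin r, ∏ j ∈ Finset.Ioi i, (E (x j / n) - E (x i / n))) *
      ∏ i : Fin r, ∏ j ∈ Finset.Ioi i, (E (-x j / n) - E (-x i / n)) := by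
    rw [← Finset.prod_mul_distrib]
    refine Finset.prod_congr rfl fun i _ => ?_
    rw [← Finset.prod_mul_distrib]
    refine Finset.prod_congr rfl fun j _ => ?_
    have h3 := pair_eq (x j / n) (x i / n)
    rw [neg_div, neg_div, h3]
    congr 1
    have h4 : Real.pi * (x i - x j) / n = - (Real.pi * (x j / n - x i / n)) := by ring
    rw [h4, Real.sin_neg]
    ring
  rw [h2]
  linear_combination (-(∏ i : Fin r, ∏ j ∈ Finset.Ioi i, (E (x j / n) - E (x i / n))) *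
      ∏ i : Fin r, ∏ j ∈ Finset.Ioi i, (E (-x j / n) - E (-x i / n))) * hs

/-- The denominator does not vanish. -/
lemma B_dl_ne_zero {r n : ℕ} (hn : 0 < n) (v : Fin r → ℤ) (hv : StrictAnti v)
    (hvb : ∀ i, 0 ≤ v i ∧ v i < n) : B n (dl r) (fun j => (v j : ℝ)) ≠ 0 := by
  rw [B_dl]
  refine mul_ne_zero (sign_ne_zero _) ?_
  rw [Finset.prod_ne_zero_iff]
  intro i _
  rw [Finset.prod_ne_zero_iff]
  intro j hj
  rw [Finset.mem_Ioi] at hj
  intro h
  have h1 : E ((v j : ℝ) / n - (v i : ℝ) / n) = 1 := by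
    rw [sub_eq_add_neg, E_add, E_neg, sub_eq_zero.1 h, mul_inv_cancel₀ (E_ne_zero _)]
  obtain ⟨m, hm⟩ := E_eq_one_iff.1 h1
  have hn' : (n : ℝ) ≠ 0 := by positivity
  have h2 : ((v j - v i : ℤ) : ℝ) = ((m * n : ℤ) : ℝ) := by
    push_cast; rw [← hm]; field_simp
  have h3 : v j - v i = m * n := by exact_mod_cast h2
  have h4 := hvb i
  have h5 := hvb j
  have h6 := hv hj
  have h7 : m = 0 := by
    have : m < 1 := by nlinarith
    have : -1 < m := by nlinarith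
    omega
  rw [h7, zero_mul] at h3
  linarith

lemma B_dl_neg_ne_zero {r n : ℕ} (hn : 0 < n) (v : Fin r → ℤ) (hv : StrictAnti v)
    (hvb : ∀ i, 0 ≤ v i ∧ v i < n) : B n (dl r) (fun j => -(v j : ℝ)) ≠ 0 := by
  have h1 := B_dl_ne_zero hn v hv hvb
  have h2 := B_dual n (dl r) (dl r) ((r : ℤ) - 1) (by
    intro i
    simp only [dl, Fin.val_rev]
    have := i.isLt
    omega) (fun j => (v j : ℝ))
  intro h
  rw [h, mul_zero] at h2
  exact h1 h2

end K289.Verlinde
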