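import Mathlib.LinearAlgebra.Matrix.Determinant.Basic
import Mathlib.Data.Fin.Tuple.Sort
import Mathlib.Data.Complex.Basic
import Mathlib.GroupTheory.Perm.Fin
import Mathlib.Tactic.LinearCombination

set_option autoImplicit false

namespace K289.Verlinde

open Finset

/-- A strictly decreasing function on `Fin r` is determined by its range. -/
lemma strictAnti_eq_of_range_eq {r n : ℕ} {f g : Fin r → Fin n} (hf : StrictAnti f)
    (hg : StrictAnti g) (h : Set.range f = Set.range g) : f = g := by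
  have hrev : StrictAnti (Fin.rev : Fin r → Fin r) := fun a b hab => Fin.rev_lt_rev.2 hab
  have h1 : StrictMono (f ∘ Fin.rev) := hf.comp hrev
  have h2 : StrictMono (g ∘ Fin.rev) := hg.comp hrev
  have h3 : Set.range (f ∘ Fin.rev) = Set.range (g ∘ Fin.rev) := by
    rw [Set.range_comp, Set.range_comp, Fin.rev_surjective.range_eq, Set.image_univ,
      Set.image_univ, h]
  have h4 := (h1.range_inj h2).1 h3
  funext i
  have := congrFun h4 (Fin.rev i)
  simpa using this

lemma sum_all_eq_factorial_mul {r n : ℕ} (G : (Fin r → Fin n) → ℂ)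
    (hsymm : ∀ (σ : Equiv.Perm (Fin r)) (ℓ : Fin r → Fin n), G (ℓ ∘ σ) = G ℓ)
    (hinj : ∀ ℓ, ¬ Function.Injective ℓ → G ℓ = 0) :
    ∑ ℓ, G ℓ = (r.factorial : ℂ) *
      ∑ ℓ ∈ (univ : Finset (Fin r → Fin n)).filter (fun ℓ => StrictAnti ℓ), G ℓ := by
  classical
  have h1 : ∑ ℓ, G ℓ = ∑ ℓ ∈ (univ : Finset (Fin r → Fin n)).filter
      (fun ℓ => Function.Injective ℓ), G ℓ := by
    symm
    apply Finset.sum_subset (Finset.filter_subset _ _)
    intro ℓ _ hℓ
    apply hinj
    intro h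
    exact hℓ (by simp [h])
  have h2 : (r.factorial : ℂ) *
      ∑ ℓ ∈ (univ : Finset (Fin r → Fin n)).filter (fun ℓ => StrictAnti ℓ), G ℓ =
      ∑ p ∈ (univ : Finset (Equiv.Perm (Fin r))) ×ˢ
        (univ : Finset (Fin r → Fin n)).filter (fun ℓ => StrictAnti ℓ), G (p.2 ∘ p.1) := by
    rw [Finset.sum_product]
    simp only [hsymm]
    rw [Finset.sum_const, Finset.card_univ, Fintype.card_perm, Fintype.card_fin, nsmul_eq_mul]
  rw [h1, h2]
  symm
  refine Finset.sum_bij (fun p _ => p.2 ∘ p.1) ?_ ?_ ?_ ?_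
  · rintro ⟨σ, ℓ⟩ hp
    simp only [mem_product, mem_univ, mem_filter, true_and] at hp ⊢
    exact hp.injective.comp σ.injective
  · rintro ⟨σ, ℓ⟩ hp ⟨σ', ℓ'⟩ hp' h
    simp only [mem_product, mem_univ, mem_filter, true_and] at hp hp' h
    have hr : Set.range ℓ = Set.range ℓ' := by
      have := congrArg Set.range h
      rwa [Set.range_comp, Set.range_comp, σ.surjective.range_eq, σ'.surjective.range_eq,
        Set.image_univ, Set.image_univ] at this
    have hℓ := strictAnti_eq_of_range_eq hp hp' hr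
    subst hℓ
    have : σ = σ' := by
      ext i
      have := congrFun h i
      exact congrArg Fin.val (hp.injective this)
    rw [this]
  · intro h hh
    simp only [mem_filter, mem_univ, true_and] at hh
    let s := Tuple.sort h
    have hs : StrictMono (h ∘ s) :=
      (Tuple.monotone_sort h).strictMono_of_injective (hh.comp s.injective)
    let τ : Equiv.Perm (Fin r) := Fin.revPerm.trans s
    have hrev : StrictAnti (Fin.rev : Fin r → Fin r) := fun a b hab => Fin.rev_lt_rev.2 hab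
    have hτ : StrictAnti (h ∘ τ) := hs.comp_strictAnti hrev
    refine ⟨(τ.symm, h ∘ τ), ?_, ?_⟩
    · simp [hτ]
    · funext i
      simp
  · rintro ⟨σ, ℓ⟩ _
    rfl

/-- Cauchy–Binet, in symmetrised form. -/
lemma sum_det_mul_det {r n : ℕ} (f g : Fin n → Fin r → ℂ) :
    ∑ ℓ : Fin r → Fin n, (Matrix.of fun i j : Fin r => f (ℓ i) j).det *
      (Matrix.of fun i j : Fin r => g (ℓ i) j).det =
    (r.factorial : ℂ) * (Matrix.of fun j j' : Fin r => ∑ l, f l j * g l j').det := by
  classical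
  have hdet : ∀ (h : Fin n → Fin r → ℂ) (ℓ : Fin r → Fin n),
      (Matrix.of fun i j : Fin r => h (ℓ i) j).det =
        ∑ σ : Equiv.Perm (Fin r), ((Equiv.Perm.sign σ : ℤ) : ℂ) * ∏ i, h (ℓ i) (σ i) := by
    intro h ℓ
    rw [← Matrix.det_transpose, Matrix.det_apply']
    rfl
  let C : Fin r → Fin r → ℂ := fun j j' => ∑ l, f l j * g l j'
  have h1 : ∀ σ τ : Equiv.Perm (Fin r),
      ∑ ℓ : Fin r → Fin n, (∏ i, f (ℓ i) (σ i)) * (∏ i, g (ℓ i) (τ i)) =
        ∏ i, C (σ i) (τ i) := by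
    intro σ τ
    simp only [C]
    rw [Finset.prod_univ_sum, Fintype.piFinset_univ]
    exact Finset.sum_congr rfl fun ℓ _ => Finset.prod_mul_distrib.symm
  have h2 : ∀ τ : Equiv.Perm (Fin r),
      ∑ σ : Equiv.Perm (Fin r), ((Equiv.Perm.sign σ : ℤ) : ℂ) * ((Equiv.Perm.sign τ : ℤ) : ℂ) *
        ∏ i, C (σ i) (τ i) = (Matrix.of C).det := by
    intro τ
    rw [Matrix.det_apply', ← Equiv.sum_comp (Equiv.mulRight τ)]
    refine Finset.sum_congr rfl fun σ _ => ?_
    have hs : ((Equiv.Perm.sign (σ * τ) : ℤ) : ℂ) * ((Equiv.Perm.sign τ : ℤ) : ℂ) =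
        ((Equiv.Perm.sign σ : ℤ) : ℂ) := by
      rw [Equiv.Perm.sign_mul]
      push_cast
      rw [mul_assoc, ← Int.cast_mul, ← Units.val_mul, Int.units_mul_self]
      simp
    rw [Equiv.coe_mulRight, hs]
    congr 1
    exact Equiv.prod_comp τ (fun i => C (σ i) i)
  calc _ = ∑ ℓ : Fin r → Fin n, ∑ τ : Equiv.Perm (Fin r), ∑ σ : Equiv.Perm (Fin r),
        ((Equiv.Perm.sign σ : ℤ) : ℂ) * ((Equiv.Perm.sign τ : ℤ) : ℂ) *
        ((∏ i, f (ℓ i) (σ i)) * (∏ i, g (ℓ i) (τ i))) := by
        refine Finset.sum_congr rfl fun ℓ _ => ?_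
        rw [hdet, hdet, Finset.sum_mul_sum, Finset.sum_comm]
        refine Finset.sum_congr rfl fun τ _ => Finset.sum_congr rfl fun σ _ => ?_
        ring
    _ = ∑ τ : Equiv.Perm (Fin r), ∑ σ : Equiv.Perm (Fin r), ∑ ℓ : Fin r → Fin n,
        ((Equiv.Perm.sign σ : ℤ) : ℂ) * ((Equiv.Perm.sign τ : ℤ) : ℂ) *
        ((∏ i, f (ℓ i) (σ i)) * (∏ i, g (ℓ i) (τ i))) := by
        rw [Finset.sum_comm]
        refine Finset.sum_congr rfl fun τ _ => ?_
        rw [Finset.sum_comm]
    _ = ∑ τ : Equiv.Perm (Fin r), (Matrix.of C).det := by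
        refine Finset.sum_congr rfl fun τ _ => ?_
        rw [← h2 τ]
        refine Finset.sum_congr rfl fun σ _ => ?_
        rw [← Finset.mul_sum, h1]
    _ = _ := by
        rw [Finset.sum_const, Finset.card_univ, Fintype.card_perm, Fintype.card_fin, nsmul_eq_mul]

/-- Cauchy–Binet over strictly decreasing sequences. -/
lemma sum_strictAnti_det_mul_det {r n : ℕ} (f g : Fin n → Fin r → ℂ) :
    ∑ ℓ ∈ (univ : Finset (Fin r → Fin n)).filter (fun ℓ => StrictAnti ℓ),
      (Matrix.of fun i j : Fin r => f (ℓ i) j).det *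
      (Matrix.of fun i j : Fin r => g (ℓ i) j).det =
    (Matrix.of fun j j' : Fin r => ∑ l, f l j * g l j').det := by
  classical
  have h1 := sum_all_eq_factorial_mul (fun ℓ : Fin r → Fin n =>
    (Matrix.of fun i j : Fin r => f (ℓ i) j).det * (Matrix.of fun i j : Fin r => g (ℓ i) j).det)
    (by
      intro σ ℓ
      have h : ∀ (h : Fin n → Fin r → ℂ), (Matrix.of fun i j : Fin r => h ((ℓ ∘ σ) i) j).det =
          ((Equiv.Perm.sign σ : ℤ) : ℂ) * (Matrix.of fun i j : Fin r => h (ℓ i) j).det :=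
        fun h => Matrix.det_permute σ (Matrix.of fun i j : Fin r => h (ℓ i) j)
      simp only [h]
      have hs : ((Equiv.Perm.sign σ : ℤ) : ℂ) * ((Equiv.Perm.sign σ : ℤ) : ℂ) = 1 := by
        rw [← Int.cast_mul, ← Units.val_mul, Int.units_mul_self]; simp
      linear_combination (Matrix.of fun i j : Fin r => f (ℓ i) j).det *
        (Matrix.of fun i j : Fin r => g (ℓ i) j).det * hs)
    (by
      intro ℓ hℓ
      rw [Function.Injective] at hℓ
      push Not at hℓ
      obtain ⟨i, j, hij, hne⟩ := hℓ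
      have : (Matrix.of fun i j : Fin r => f (ℓ i) j).det = 0 :=
        Matrix.det_zero_of_row_eq hne (by funext k; simp [hij])
      simp only [this, zero_mul])
  rw [sum_det_mul_det] at h1
  have hf : (r.factorial : ℂ) ≠ 0 := by exact_mod_cast r.factorial_ne_zero
  exact (mul_left_cancel₀ hf h1).symm

end K289.Verlinde
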